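import Mathlib
import Groth.Agent.Lib.Helper9.FlatInj
import Groth.Agent.Lib27.Compl.Null1

/-!
# Fibrewise injectivity criterion (Stacks 00ME) in elementwise, localized form: Noetherian case
-/

set_option autoImplicit false
set_option linter.style.haveILetI false

open TensorProduct

universe u

namespace Groth.Agent.Lib27.FibInj

section LocSmul

variable {A B : Type*} [CommRing A] [CommRing B] [Algebra A B] (T : Submonoid B)
  {X₀ : Type*} [AddCommGroup X₀] [Module A X₀] [Module B X₀] [IsScalarTower A B X₀] (I : Ideal A)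

/-- `I • ⊤` is stable under `B`. -/
lemma smul_mem_smul_top (b : B) {x : X₀} (hx : x ∈ I • (⊤ : Submodule A X₀)) :
    b • x ∈ I • (⊤ : Submodule A X₀) := by
  induction hx using Submodule.smul_induction_on' with
  | smul a ha z _ => rw [smul_comm]; exact Submodule.smul_mem_smul ha trivial
  | add y hy z hz ihy ihz => rw [smul_add]; exact add_mem ihy ihz

lemma mk_mem_smul_top_of_mem {y : X₀} (hy : y ∈ I • (⊤ : Submodule A X₀)) (t : T) :
    LocalizedModule.mk y t ∈ I • (⊤ : Submodule A (LocalizedModule T X₀)) := by
  induction hy using Submodule.smul_induction_on' with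
  | smul a ha z _ =>
    rw [← LocalizedModule.smul'_mk]
    exact Submodule.smul_mem_smul ha trivial
  | add y hy z hz ihy ihz =>
    have : LocalizedModule.mk (y + z) t = LocalizedModule.mk y t + LocalizedModule.mk z t := by
      rw [LocalizedModule.mk_add_mk, ← smul_add, LocalizedModule.mk_cancel_common_left]
    rw [this]
    exact add_mem ihy ihz

lemma mk_mem_smul_top_iff (x : X₀) (t : T) :
    LocalizedModule.mk x t ∈ I • (⊤ : Submodule A (LocalizedModule T X₀)) ↔
      ∃ s : T, (s : B) • x ∈ I • (⊤ : Submodule A X₀) := by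
  constructor
  · intro h
    have key : ∀ ξ ∈ I • (⊤ : Submodule A (LocalizedModule T X₀)),
        ∃ y ∈ I • (⊤ : Submodule A X₀), ∃ t' : T, ξ = LocalizedModule.mk y t' := by
      intro ξ hξ
      induction hξ using Submodule.smul_induction_on' with
      | smul a ha ζ _ =>
        induction ζ using LocalizedModule.induction_on with
        | _ z t' =>
          exact ⟨a • z, Submodule.smul_mem_smul ha trivial, t', LocalizedModule.smul'_mk a z t'⟩
      | add ξ₁ h₁ ξ₂ h₂ ih₁ ih₂ =>
        obtain ⟨y₁, hy₁, t₁, rfl⟩ := ih₁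
        obtain ⟨y₂, hy₂, t₂, rfl⟩ := ih₂
        refine ⟨t₂ • y₁ + t₁ • y₂, add_mem (smul_mem_smul_top I _ hy₁) (smul_mem_smul_top I _ hy₂),
          t₁ * t₂, LocalizedModule.mk_add_mk⟩
    obtain ⟨y, hy, t', e⟩ := key _ h
    rw [LocalizedModule.mk_eq] at e
    obtain ⟨c, hc⟩ := e
    refine ⟨c * t', ?_⟩
    have : ((c * t' : T) : B) • x = (c : B) • (t : B) • y := by
      rw [Submonoid.coe_mul, mul_smul]
      exact hc
    rw [this]
    exact smul_mem_smul_top I _ (smul_mem_smul_top I _ hy)
  · rintro ⟨s, hs⟩
    have : LocalizedModule.mk x t = LocalizedModule.mk ((s : B) • x) (s * t) :=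
      (LocalizedModule.mk_cancel_common_left s t x).symm
    rw [this]
    exact mk_mem_smul_top_of_mem T I hs _

end LocSmul

/-- Converse of `Compl.rTensor_quotient_injective`. -/
lemma mem_smul_top_of_rTensor_quotient_injective {R : Type*} [CommRing R] {M M' : Type*}
    [AddCommGroup M] [Module R M] [AddCommGroup M'] [Module R M'] (f : M →ₗ[R] M') (J : Ideal R)
    (h : Function.Injective (f.rTensor (R ⧸ J))) (x : M)
    (hx : f x ∈ (J • ⊤ : Submodule R M')) : x ∈ (J • ⊤ : Submodule R M) := by
  have h1 : f.rTensor (R ⧸ J) (x ⊗ₜ[R] (1 : R ⧸ J)) = 0 := by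
    rw [LinearMap.rTensor_tmul]
    have := (Submodule.Quotient.mk_eq_zero _).2 hx
    rw [← tensorQuotEquivQuotSMul_symm_mk, this, map_zero]
  have h2 : x ⊗ₜ[R] (1 : R ⧸ J) = 0 := h (by rw [h1, map_zero])
  have := congrArg (tensorQuotEquivQuotSMul M J) h2
  rw [← map_one (Ideal.Quotient.mk J), tensorQuotEquivQuotSMul_tmul_mk, one_smul, map_zero,
    Submodule.Quotient.mk_eq_zero] at this
  exact this

section LayerA

variable {A B : Type u} [CommRing A] [CommRing B] [Algebra A B] [IsNoetherianRing B]
  (q : Ideal B) [q.IsPrime]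
  {N₀ M₀ : Type u} [AddCommGroup N₀] [Module A N₀] [Module B N₀] [IsScalarTower A B N₀]
  [Module.Finite B N₀]
  [AddCommGroup M₀] [Module A M₀] [Module B M₀] [IsScalarTower A B M₀]

/-- Stacks 00ME, elementwise at a prime `q` of a Noetherian `A`-algebra `B`. -/
theorem layerA [Module.Flat A (LocalizedModule q.primeCompl M₀)] (u₀ : N₀ →ₗ[B] M₀)
    (hfib : ∀ x : N₀,
      (∃ s ∉ q, s • u₀ x ∈ (q.comap (algebraMap A B)) • (⊤ : Submodule A M₀)) →
        ∃ s' ∉ q, s' • x ∈ (q.comap (algebraMap A B)) • (⊤ : Submodule A N₀))
    (I : Ideal A) (x : N₀) (hx : ∃ s ∉ q, s • u₀ x ∈ I • (⊤ : Submodule A M₀)) :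
    ∃ s' ∉ q, s' • x ∈ I • (⊤ : Submodule A N₀) := by
  obtain ⟨p, hp⟩ : ∃ p : Ideal A, p = q.comap (algebraMap A B) := ⟨_, rfl⟩
  haveI : p.IsPrime := by rw [hp]; infer_instance
  rw [← hp] at hfib
  letI algA'B' : Algebra (Localization.AtPrime p) (Localization.AtPrime q) :=
    (Localization.localRingHom p q (algebraMap A B) hp).toAlgebra
  haveI : IsLocalHom (algebraMap (Localization.AtPrime p) (Localization.AtPrime q)) :=
    Localization.isLocalHom_localRingHom p q (algebraMap A B) hp
  have hmap : ∀ a : A, algebraMap (Localization.AtPrime p) (Localization.AtPrime q)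
      (algebraMap A (Localization.AtPrime p) a) =
        algebraMap B (Localization.AtPrime q) (algebraMap A B a) := fun a =>
    Localization.localRingHom_to_map p q (algebraMap A B) hp a
  -- module structures over `A_p`
  letI modN : Module (Localization.AtPrime p) (LocalizedModule q.primeCompl N₀) :=
    Module.compHom _ (algebraMap (Localization.AtPrime p) (Localization.AtPrime q))
  letI modM : Module (Localization.AtPrime p) (LocalizedModule q.primeCompl M₀) :=
    Module.compHom _ (algebraMap (Localization.AtPrime p) (Localization.AtPrime q))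
  haveI : IsScalarTower (Localization.AtPrime p) (Localization.AtPrime q)
      (LocalizedModule q.primeCompl N₀) := IsScalarTower.of_algebraMap_smul fun _ _ => rfl
  haveI : IsScalarTower (Localization.AtPrime p) (Localization.AtPrime q)
      (LocalizedModule q.primeCompl M₀) := IsScalarTower.of_algebraMap_smul fun _ _ => rfl
  haveI : IsScalarTower A (Localization.AtPrime p) (LocalizedModule q.primeCompl N₀) :=
    IsScalarTower.of_algebraMap_smul fun a ξ => by
      change algebraMap (Localization.AtPrime p) (Localization.AtPrime q)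
        (algebraMap A (Localization.AtPrime p) a) • ξ = a • ξ
      rw [hmap, algebraMap_smul, algebraMap_smul]
  haveI : IsScalarTower A (Localization.AtPrime p) (LocalizedModule q.primeCompl M₀) :=
    IsScalarTower.of_algebraMap_smul fun a ξ => by
      change algebraMap (Localization.AtPrime p) (Localization.AtPrime q)
        (algebraMap A (Localization.AtPrime p) a) • ξ = a • ξ
      rw [hmap, algebraMap_smul, algebraMap_smul]
  haveI : Module.Flat (Localization.AtPrime p) (LocalizedModule q.primeCompl M₀) :=
    (Module.flat_iff_of_isLocalization (Localization.AtPrime p) p.primeCompl _).2 inferInstance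
  haveI : Module.Finite (Localization.AtPrime q) (LocalizedModule q.primeCompl N₀) :=
    Module.Finite.of_isLocalizedModule q.primeCompl (Rₚ := Localization.AtPrime q)
      (LocalizedModule.mkLinearMap q.primeCompl N₀)
  -- the localized map
  let u : LocalizedModule q.primeCompl N₀ →ₗ[Localization.AtPrime p]
      LocalizedModule q.primeCompl M₀ :=
    (LocalizedModule.map q.primeCompl u₀).restrictScalars (Localization.AtPrime p)
  have hu : ∀ (y : N₀) (t : q.primeCompl),
      u (LocalizedModule.mk y t) = LocalizedModule.mk (u₀ y) t := fun y t =>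
    LocalizedModule.map_mk q.primeCompl u₀ y t
  -- transfer of `J • ⊤` between `A` and `A_p`
  have hres : ∀ (J : Ideal A) (X : Type u) [AddCommGroup X] [Module A X]
      [Module (Localization.AtPrime p) X] [IsScalarTower A (Localization.AtPrime p) X] (ξ : X),
      ξ ∈ (J.map (algebraMap A (Localization.AtPrime p))) • (⊤ : Submodule (Localization.AtPrime p) X)
        ↔ ξ ∈ J • (⊤ : Submodule A X) := by
    intro J X _ _ _ _ ξ
    have := Ideal.smul_restrictScalars J (⊤ : Submodule (Localization.AtPrime p) X)
    rw [Submodule.restrictScalars_top] at this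
    rw [← this]
    rfl
  -- the general transfer statement
  have key : ∀ (J : Ideal A),
      (∀ ξ : LocalizedModule q.primeCompl N₀,
        u ξ ∈ (J.map (algebraMap A (Localization.AtPrime p))) •
          (⊤ : Submodule (Localization.AtPrime p) (LocalizedModule q.primeCompl M₀)) →
        ξ ∈ (J.map (algebraMap A (Localization.AtPrime p))) •
          (⊤ : Submodule (Localization.AtPrime p) (LocalizedModule q.primeCompl N₀))) ↔
      (∀ y : N₀, (∃ s ∉ q, s • u₀ y ∈ J • (⊤ : Submodule A M₀)) →
        ∃ s' ∉ q, s' • y ∈ J • (⊤ : Submodule A N₀)) := by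
    intro J
    constructor
    · intro H y ⟨s, hs, hsy⟩
      have h1 : u (LocalizedModule.mk y 1) ∈
          (J.map (algebraMap A (Localization.AtPrime p))) •
            (⊤ : Submodule (Localization.AtPrime p) (LocalizedModule q.primeCompl M₀)) := by
        rw [hu, hres, mk_mem_smul_top_iff]
        exact ⟨⟨s, hs⟩, hsy⟩
      have h2 := H _ h1
      rw [hres, mk_mem_smul_top_iff] at h2
      obtain ⟨s', hs'⟩ := h2
      exact ⟨s', s'.2, hs'⟩
    · intro H ξ hξ
      induction ξ using LocalizedModule.induction_on with
      | _ y t =>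
        rw [hu, hres, mk_mem_smul_top_iff] at hξ
        obtain ⟨s, hs⟩ := hξ
        obtain ⟨s', hs', hsy'⟩ := H y ⟨s, s.2, hs⟩
        rw [hres, mk_mem_smul_top_iff]
        exact ⟨⟨s', hs'⟩, hsy'⟩
  -- hypothesis of the local theorem
  have hmax : IsLocalRing.maximalIdeal (Localization.AtPrime p) =
      p.map (algebraMap A (Localization.AtPrime p)) :=
    (Localization.AtPrime.map_eq_maximalIdeal).symm
  have h0 : Function.Injective (u.lTensor (IsLocalRing.ResidueField (Localization.AtPrime p))) := by
    rw [LinearMap.lTensor_inj_iff_rTensor_inj]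
    refine Groth.Agent.Lib27.Compl.rTensor_quotient_injective u _ ?_
    rw [hmax]
    exact (key p).2 hfib
  have h1 := Groth.Agent.Lib.Helper9.rTensor_injective_of_finite u (Localization.AtPrime q) h0
    (Localization.AtPrime p ⧸ I.map (algebraMap A (Localization.AtPrime p)))
  have h2 := (key I).1 (fun ξ hξ => mem_smul_top_of_rTensor_quotient_injective u _ h1 ξ hξ)
  exact h2 x hx

end LayerA

end Groth.Agent.Lib27.FibInj
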