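import Mathlib
import Groth.Agent.Lib.Helper18.FlJ
import Groth.Agent.Lib27.FibInj.LayerA

/-!
# Fibrewise injectivity: explicit polynomial presentations, basic lemmas
-/

set_option autoImplicit false
set_option linter.style.haveILetI false
set_option linter.unusedSectionVars false

open TensorProduct Function MvPolynomial
open Groth.Agent.Lib.Helper18.Fl

universe u

namespace Groth.Agent.Lib27.FibInj

section Quot

variable {A B : Type*} [CommRing A] [CommRing B] [Algebra A B] {F : Type*} [AddCommGroup F]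
  [Module A F] [Module B F] [IsScalarTower A B F]

/-- membership of a class in `J • ⊤` of a quotient -/
lemma mk_mem_smul_top_iff_exists (K : Submodule B F) (J : Ideal A) (y : F) :
    (Submodule.Quotient.mk y : F ⧸ K) ∈ J • (⊤ : Submodule A (F ⧸ K)) ↔
      ∃ k ∈ K, y - k ∈ J • (⊤ : Submodule A F) := by
  have hsurj : Function.Surjective (K.mkQ.restrictScalars A) := K.mkQ_surjective
  have hmap : J • (⊤ : Submodule A (F ⧸ K)) =
      (J • (⊤ : Submodule A F)).map (K.mkQ.restrictScalars A) := by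
    rw [Submodule.map_smul'', Submodule.map_top, LinearMap.range_eq_top.2 hsurj]
  rw [hmap, Submodule.mem_map]
  constructor
  · rintro ⟨z, hz, hzy⟩
    refine ⟨y - z, ?_, by rwa [sub_sub_cancel]⟩
    have : (Submodule.Quotient.mk z : F ⧸ K) = Submodule.Quotient.mk y := hzy
    rw [← Submodule.Quotient.mk_eq_zero K, Submodule.Quotient.mk_sub, this, sub_self]
  · rintro ⟨k, hk, hyk⟩
    refine ⟨y - k, hyk, ?_⟩
    change (Submodule.Quotient.mk (y - k) : F ⧸ K) = Submodule.Quotient.mk y
    rw [Submodule.Quotient.mk_sub, (Submodule.Quotient.mk_eq_zero K).2 hk, sub_zero]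

end Quot

section Uapp

variable {σ : Type}

/-- the linear map between free modules given by a family of image vectors -/
noncomputable def Uapp {R : Type u} [CommRing R] {r r' : ℕ}
    (U : Fin r' → Fin r → MvPolynomial σ R) :
    (Fin r' → MvPolynomial σ R) →ₗ[MvPolynomial σ R] (Fin r → MvPolynomial σ R) :=
  Fintype.linearCombination (MvPolynomial σ R) U

theorem Uapp_apply {R : Type u} [CommRing R] {r r' : ℕ}
    (U : Fin r' → Fin r → MvPolynomial σ R) (x : Fin r' → MvPolynomial σ R) :
    Uapp U x = ∑ j, x j • U j := Fintype.linearCombination_apply _ _ _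

theorem mapVec_Uapp {R₀ R₁ : Type u} [CommRing R₀] [CommRing R₁] (φ : R₀ →+* R₁) {r r' : ℕ}
    (U : Fin r' → Fin r → MvPolynomial σ R₀) (x : Fin r' → MvPolynomial σ R₀) :
    mapVec φ (Uapp U x) = Uapp (fun j => mapVec φ (U j)) (mapVec φ x) := by
  rw [Uapp_apply, Uapp_apply, mapVec_sum]
  refine Finset.sum_congr rfl fun j _ => ?_
  rw [mapVec_smul]
  rfl

theorem mapVec_sub {R₀ R₁ : Type u} [CommRing R₀] [CommRing R₁] (φ : R₀ →+* R₁) {r : ℕ}
    (v w : Fin r → MvPolynomial σ R₀) : mapVec φ (v - w) = mapVec φ v - mapVec φ w := by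
  funext k; simp [mapVec]

theorem mapVec_neg {R₀ R₁ : Type u} [CommRing R₀] [CommRing R₁] (φ : R₀ →+* R₁) {r : ℕ}
    (v : Fin r → MvPolynomial σ R₀) : mapVec φ (-v) = -mapVec φ v := by
  funext k; simp [mapVec]

/-- membership in `Kspan` in terms of coefficients -/
theorem mem_Kspan_iff {R : Type u} [CommRing R] {m r : ℕ} (g : Fin m → Fin r → MvPolynomial σ R)
    (y : Fin r → MvPolynomial σ R) : y ∈ Kspan g ↔ ∃ c : Fin m → MvPolynomial σ R,
      ∑ i, c i • g i = y :=
  Submodule.mem_span_range_iff_exists_fun _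

theorem Kspan_le_comap_Uapp {R : Type u} [CommRing R] {m m' r r' : ℕ}
    (g : Fin m → Fin r → MvPolynomial σ R) (g' : Fin m' → Fin r' → MvPolynomial σ R)
    (U : Fin r' → Fin r → MvPolynomial σ R) (hU : ∀ i, Uapp U (g' i) ∈ Kspan g) :
    Kspan g' ≤ (Kspan g).comap (Uapp U) := by
  rw [Submodule.span_le]
  rintro _ ⟨i, rfl⟩
  exact hU i

end Uapp

end Groth.Agent.Lib27.FibInj
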