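import Mathlib
import Groth.Agent.Lib27.FibInj.LayerB1

/-!
# Fibrewise injectivity: descent of the fibre condition along a ring map
-/

set_option autoImplicit false
set_option linter.style.haveILetI false
set_option linter.unusedSectionVars false

open TensorProduct Function MvPolynomial
open Groth.Agent.Lib.Helper18.Fl

universe u

namespace Groth.Agent.Lib27.FibInj

section Descend

variable {σ : Type} [Finite σ] {R₀ R : Type u} [CommRing R₀] [CommRing R] (φ : R₀ →+* R)
  {m' r' : ℕ}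

/-- A `q`-local membership `s' • x' ∈ Kspan g' + p F'` over `R`, for data defined over `R₀`,
descends to `R₀`. -/
theorem fibre_mem_descend (g'₀ : Fin m' → Fin r' → MvPolynomial σ R₀)
    (x'₀ : Fin r' → MvPolynomial σ R₀)
    (q : Ideal (MvPolynomial σ R)) [q.IsPrime]
    (h : ∃ s' ∉ q, ∃ k' ∈ Kspan (fun i => mapVec φ (g'₀ i)),
        s' • mapVec φ x'₀ - k' ∈
          (q.comap (C : R →+* MvPolynomial σ R)) • (⊤ : Submodule R (Fin r' → MvPolynomial σ R))) :
    ∃ s'₀ ∉ q.comap (MvPolynomial.map φ), ∃ k'₀ ∈ Kspan g'₀,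
        s'₀ • x'₀ - k'₀ ∈ ((q.comap (C : R →+* MvPolynomial σ R)).comap φ) •
          (⊤ : Submodule R₀ (Fin r' → MvPolynomial σ R₀)) := by
  classical
  obtain ⟨p, hp⟩ : ∃ p : Ideal R, p = q.comap (C : R →+* MvPolynomial σ R) := ⟨_, rfl⟩
  obtain ⟨p₀, hp₀⟩ : ∃ p₀ : Ideal R₀, p₀ = p.comap φ := ⟨_, rfl⟩
  rw [← hp] at h ⊢
  rw [← hp₀]
  haveI hpprime : p.IsPrime := by rw [hp]; infer_instance
  haveI hp₀prime : p₀.IsPrime := by rw [hp₀]; infer_instance
  letI : Algebra p₀.ResidueField p.ResidueField :=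
    (Ideal.ResidueField.map p₀ p φ hp₀).toAlgebra
  have hcomm : (algebraMap p₀.ResidueField p.ResidueField).comp (algebraMap R₀ p₀.ResidueField) =
      (algebraMap R p.ResidueField).comp φ := by
    ext a
    exact Ideal.ResidueField.map_algebraMap p₀ p φ hp₀ a
  have hker : ∀ e : MvPolynomial σ R, MvPolynomial.map (algebraMap R p.ResidueField) e = 0 ↔
      e ∈ p.map (C : R →+* MvPolynomial σ R) := by
    intro e
    rw [← RingHom.mem_ker, MvPolynomial.ker_map, Ideal.ker_algebraMap_residueField]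
  have hker₀ : ∀ e : MvPolynomial σ R₀, MvPolynomial.map (algebraMap R₀ p₀.ResidueField) e = 0 ↔
      e ∈ p₀.map (C : R₀ →+* MvPolynomial σ R₀) := by
    intro e
    rw [← RingHom.mem_ker, MvPolynomial.ker_map, Ideal.ker_algebraMap_residueField]
  obtain ⟨s', hs', k', hk', hmem⟩ := h
  obtain ⟨c', rfl⟩ := (mem_Kspan_iff _ _).1 hk'
  -- the family of vectors and the syzygy
  obtain ⟨G₀, hG₀⟩ : ∃ G₀ : Fin (m' + 1) → Fin r' → MvPolynomial σ R₀,
      G₀ = Fin.cons x'₀ g'₀ := ⟨_, rfl⟩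
  obtain ⟨c, hc⟩ : ∃ c : Fin (m' + 1) → MvPolynomial σ R, c = Fin.cons s' (fun i => - c' i) :=
    ⟨_, rfl⟩
  have hsyz : ∀ kk, MvPolynomial.map (algebraMap R p.ResidueField)
      (∑ i, c i * MvPolynomial.map φ (G₀ i kk)) = 0 := by
    intro kk
    rw [hker]
    have h1 := forall_mem_of_mem_smul_top p _ hmem kk
    have h2 : (s' • mapVec φ x'₀ - ∑ i, c' i • mapVec φ (g'₀ i)) kk =
        ∑ i, c i * MvPolynomial.map φ (G₀ i kk) := by
      rw [Fin.sum_univ_succ, hc, hG₀]
      simp only [Fin.cons_zero, Fin.cons_succ, Pi.sub_apply, Pi.smul_apply, Finset.sum_apply,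
        smul_eq_mul, mapVec_apply, neg_mul, Finset.sum_neg_distrib]
      ring
    rw [← h2]
    exact h1
  obtain ⟨t, n, b, l, e, ht, hb, he, hce⟩ := relations_descend φ
    (algebraMap R₀ p₀.ResidueField) (algebraMap R p.ResidueField) hcomm
    (residueField_frac p₀) (residueField_frac p) G₀ c hsyz
  -- some `b 0 j` is outside `q`
  have hCt : (C t : MvPolynomial σ R) ∉ q := by
    intro hmem'
    apply ht
    rw [Ideal.algebraMap_residueField_eq_zero, hp]
    exact hmem'
  have hpq : p.map (C : R →+* MvPolynomial σ R) ≤ q := by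
    rw [hp]; exact Ideal.map_comap_le
  have hex : ∃ j, MvPolynomial.map φ (b 0 j) ∉ q := by
    by_contra hcon
    push Not at hcon
    have h0 := hce 0
    have hc0 : c 0 = s' := by rw [hc]; rfl
    rw [hc0] at h0
    have hL : (C t : MvPolynomial σ R) * s' ∉ q := fun hm =>
      (Ideal.IsPrime.mem_or_mem inferInstance hm).elim hCt hs'
    apply hL
    rw [h0]
    refine Ideal.add_mem _ (hpq ((hker _).1 (he 0))) (Ideal.sum_mem _ fun j _ => ?_)
    exact Ideal.mul_mem_right _ _ (hcon j)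
  obtain ⟨j, hj⟩ := hex
  refine ⟨b 0 j, hj, - ∑ i : Fin m', b i.succ j • g'₀ i, ?_, ?_⟩
  · exact Submodule.neg_mem _ (Submodule.sum_mem _ fun i _ =>
      Submodule.smul_mem _ _ (Submodule.subset_span ⟨i, rfl⟩))
  · refine mem_smul_top_of_forall_mem p₀ _ fun kk => ?_
    rw [← hker₀]
    have h3 : (b 0 j • x'₀ - - ∑ i : Fin m', b i.succ j • g'₀ i) kk =
        ∑ i, b i j * G₀ i kk := by
      rw [Fin.sum_univ_succ, hG₀]
      simp only [Fin.cons_zero, Fin.cons_succ, Pi.sub_apply, Pi.smul_apply, Pi.neg_apply,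
        Finset.sum_apply, smul_eq_mul, sub_neg_eq_add]
    rw [h3]
    exact hb j kk

end Descend

end Groth.Agent.Lib27.FibInj
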