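import Mathlib
import Groth.Agent.Lib27.FibInj.LayerB2

/-!
# Fibrewise injectivity: the Noetherian explicit case and lifting data to f.g. subalgebras
-/

set_option autoImplicit false
set_option linter.style.haveILetI false
set_option linter.unusedSectionVars false

open TensorProduct Function MvPolynomial
open Groth.Agent.Lib.Helper18.Fl

universe u

namespace Groth.Agent.Lib27.FibInj

section Noeth

variable {R : Type u} [CommRing R] {σ : Type} [Finite σ] {m r m' r' : ℕ}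

/-- The explicit fibrewise injectivity criterion over a Noetherian base. -/
theorem layerB_noeth [IsNoetherianRing R] (g : Fin m → Fin r → MvPolynomial σ R)
    (g' : Fin m' → Fin r' → MvPolynomial σ R)
    (U : Fin r' → Fin r → MvPolynomial σ R) (hU : ∀ i, Uapp U (g' i) ∈ Kspan g)
    (q : Ideal (MvPolynomial σ R)) [q.IsPrime]
    (hflat : Module.Flat R (LocalizedModule q.primeCompl
      ((Fin r → MvPolynomial σ R) ⧸ Kspan g)))
    (hfib : ∀ x' : Fin r' → MvPolynomial σ R,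
      (∃ s ∉ q, ∃ k ∈ Kspan g, s • Uapp U x' - k ∈
        (q.comap (C : R →+* MvPolynomial σ R)) • (⊤ : Submodule R (Fin r → MvPolynomial σ R))) →
      ∃ s' ∉ q, ∃ k' ∈ Kspan g', s' • x' - k' ∈
        (q.comap (C : R →+* MvPolynomial σ R)) • (⊤ : Submodule R (Fin r' → MvPolynomial σ R)))
    (I : Ideal R) (x' : Fin r' → MvPolynomial σ R)
    (hx : ∃ s ∉ q, ∃ k ∈ Kspan g, s • Uapp U x' - k ∈
      I • (⊤ : Submodule R (Fin r → MvPolynomial σ R))) :
    ∃ s' ∉ q, ∃ k' ∈ Kspan g', s' • x' - k' ∈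
      I • (⊤ : Submodule R (Fin r' → MvPolynomial σ R)) := by
  haveI := hflat
  have hle := Kspan_le_comap_Uapp g g' U hU
  obtain ⟨u₀, hu₀⟩ : ∃ u₀ : ((Fin r' → MvPolynomial σ R) ⧸ Kspan g') →ₗ[MvPolynomial σ R]
      ((Fin r → MvPolynomial σ R) ⧸ Kspan g), u₀ = (Kspan g').mapQ (Kspan g) (Uapp U) hle :=
    ⟨_, rfl⟩
  have hu₀mk : ∀ (s : MvPolynomial σ R) (y : Fin r' → MvPolynomial σ R),
      s • u₀ (Submodule.Quotient.mk y) = Submodule.Quotient.mk (s • Uapp U y) := by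
    intro s y
    rw [hu₀, Submodule.mapQ_apply, ← Submodule.Quotient.mk_smul]
  have halg : (algebraMap R (MvPolynomial σ R)) = C := MvPolynomial.algebraMap_eq R σ
  have key := layerA (A := R) (B := MvPolynomial σ R) q u₀ ?_ I (Submodule.Quotient.mk x') ?_
  · obtain ⟨s', hs', hmem⟩ := key
    rw [← Submodule.Quotient.mk_smul, mk_mem_smul_top_iff_exists] at hmem
    exact ⟨s', hs', hmem⟩
  · intro y hy
    obtain ⟨y, rfl⟩ := Submodule.Quotient.mk_surjective _ y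
    obtain ⟨s, hs, hmem⟩ := hy
    rw [hu₀mk, mk_mem_smul_top_iff_exists, halg] at hmem
    obtain ⟨s', hs', hmem'⟩ := hfib y ⟨s, hs, hmem⟩
    refine ⟨s', hs', ?_⟩
    rw [← Submodule.Quotient.mk_smul, mk_mem_smul_top_iff_exists, halg]
    exact hmem'
  · obtain ⟨s, hs, hmem⟩ := hx
    refine ⟨s, hs, ?_⟩
    rw [hu₀mk, mk_mem_smul_top_iff_exists]
    exact hmem

end Noeth

section Lift

variable {R : Type u} [CommRing R] {σ : Type}

theorem exists_fg_poly (f : MvPolynomial σ R) : ∃ S : Subalgebra ℤ R, S.FG ∧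
    ∀ S' : Subalgebra ℤ R, S ≤ S' → ∃ f₀ : MvPolynomial σ S', MvPolynomial.map (inc S') f₀ = f := by
  refine ⟨Algebra.adjoin ℤ (f.coeffs : Set R),
    Subalgebra.fg_def.2 ⟨_, Finset.finite_toSet _, rfl⟩, fun S' hS' => ?_⟩
  exact exists_map_eq_of_coeffs_subset S' f fun x hx => hS' (Algebra.subset_adjoin hx)

theorem exists_fg_vec {r : ℕ} (w : Fin r → MvPolynomial σ R) : ∃ S : Subalgebra ℤ R, S.FG ∧
    ∀ S' : Subalgebra ℤ R, S ≤ S' →
      ∃ w₀ : Fin r → MvPolynomial σ S', mapVec (inc S') w₀ = w := by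
  classical
  refine ⟨Algebra.adjoin ℤ (⋃ k, ((w k).coeffs : Set R)),
    Subalgebra.fg_def.2 ⟨_, Set.finite_iUnion fun k => Finset.finite_toSet _, rfl⟩,
    fun S' hS' => ?_⟩
  choose w₀ hw₀ using fun k => exists_map_eq_of_coeffs_subset S' (w k) fun x hx =>
    hS' (Algebra.subset_adjoin (Set.mem_iUnion.2 ⟨k, hx⟩))
  exact ⟨w₀, funext fun k => hw₀ k⟩

theorem exists_fg_fam {m r : ℕ} (g : Fin m → Fin r → MvPolynomial σ R) :
    ∃ S : Subalgebra ℤ R, S.FG ∧ ∀ S' : Subalgebra ℤ R, S ≤ S' →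
      ∃ g₀ : Fin m → Fin r → MvPolynomial σ S', ∀ i, mapVec (inc S') (g₀ i) = g i := by
  classical
  refine ⟨Algebra.adjoin ℤ (⋃ i, ⋃ k, ((g i k).coeffs : Set R)),
    Subalgebra.fg_def.2 ⟨_, Set.finite_iUnion fun i => Set.finite_iUnion fun k =>
      Finset.finite_toSet _, rfl⟩, fun S' hS' => ?_⟩
  choose g₀ hg₀ using fun i k => exists_map_eq_of_coeffs_subset S' (g i k) fun x hx =>
    hS' (Algebra.subset_adjoin (Set.mem_iUnion.2 ⟨i, Set.mem_iUnion.2 ⟨k, hx⟩⟩))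
  exact ⟨g₀, fun i => funext fun k => hg₀ i k⟩

theorem exists_fg_elts {h : ℕ} (a : Fin h → R) : ∃ S : Subalgebra ℤ R, S.FG ∧
    ∀ S' : Subalgebra ℤ R, S ≤ S' → ∃ a₀ : Fin h → S', ∀ l, inc S' (a₀ l) = a l := by
  refine ⟨Algebra.adjoin ℤ (Set.range a),
    Subalgebra.fg_def.2 ⟨_, Set.finite_range a, rfl⟩, fun S' hS' => ?_⟩
  exact ⟨fun l => ⟨a l, hS' (Algebra.subset_adjoin ⟨l, rfl⟩)⟩, fun l => rfl⟩

end Lift

end Groth.Agent.Lib27.FibInj
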