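import Mathlib
import Groth.Agent.Lib27.FibInj.LayerB3
import Groth.Agent.Lib.Helper18.FlE5

/-!
# Fibrewise injectivity: the explicit criterion over an arbitrary base ring
-/

set_option autoImplicit false
set_option linter.style.haveILetI false
set_option linter.unusedSectionVars false

open TensorProduct Function MvPolynomial
open Groth.Agent.Lib.Helper18.Fl

universe u

namespace Groth.Agent.Lib27.FibInj

section Main

variable {R : Type u} [CommRing R] {σ : Type} [Finite σ] {m r m' r' : ℕ}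

theorem comap_C_comap_map {R₀ : Type u} [CommRing R₀] (φ : R₀ →+* R)
    (q : Ideal (MvPolynomial σ R)) :
    (q.comap (MvPolynomial.map φ)).comap (C : R₀ →+* MvPolynomial σ R₀) =
      (q.comap (C : R →+* MvPolynomial σ R)).comap φ := by
  ext a
  simp only [Ideal.mem_comap, MvPolynomial.map_C]

/-- The explicit fibrewise injectivity criterion (Stacks 046Y in presentation form). -/
theorem layerB (g : Fin m → Fin r → MvPolynomial σ R)
    (g' : Fin m' → Fin r' → MvPolynomial σ R)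
    (U : Fin r' → Fin r → MvPolynomial σ R) (hU : ∀ i, Uapp U (g' i) ∈ Kspan g)
    (q : Ideal (MvPolynomial σ R)) [q.IsPrime]
    (hflat : Module.Flat R (LocalizedModule q.primeCompl
      ((Fin r → MvPolynomial σ R) ⧸ Kspan g)))
    (hfib : ∀ x' : Fin r' → MvPolynomial σ R,
      (∃ s ∉ q, ∃ k ∈ Kspan g, s • Uapp U x' - k ∈
        (q.comap (C : R →+* MvPolynomial σ R)) • (⊤ : Submodule R (Fin r → MvPolynomial σ R))) →
      ∃ s' ∉ q, ∃ k' ∈ Kspan g', s' • x' - k' ∈
        (q.comap (C : R →+* MvPolynomial σ R)) • (⊤ : Submodule R (Fin r' → MvPolynomial σ R)))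
    (I : Ideal R) (hI : I.FG) (x' : Fin r' → MvPolynomial σ R)
    (hx : ∃ s ∉ q, ∃ k ∈ Kspan g, s • Uapp U x' - k ∈
      I • (⊤ : Submodule R (Fin r → MvPolynomial σ R))) :
    ∃ s' ∉ q, ∃ k' ∈ Kspan g', s' • x' - k' ∈
      I • (⊤ : Submodule R (Fin r' → MvPolynomial σ R)) := by
  classical
  -- unpack the data
  obtain ⟨h, a, ha⟩ := Submodule.fg_iff_exists_fin_generating_family.mp hI
  have ha' : Ideal.span (Set.range a) = I := ha
  obtain ⟨s, hs, k, hk, hmem⟩ := hx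
  obtain ⟨c, rfl⟩ := (mem_Kspan_iff _ _).1 hk
  rw [← ha'] at hmem
  obtain ⟨v, hv⟩ := exists_sum_of_mem_smul_top a _ hmem
  choose d hd using fun i => (mem_Kspan_iff _ _).1 (hU i)
  -- a finitely generated subalgebra carrying all the data
  obtain ⟨Sg, hSg, lg⟩ := exists_fg_fam g
  obtain ⟨Sg', hSg', lg'⟩ := exists_fg_fam g'
  obtain ⟨SU, hSU, lU⟩ := exists_fg_fam U
  obtain ⟨Sd, hSd, ld⟩ := exists_fg_fam d
  obtain ⟨Sx, hSx, lx⟩ := exists_fg_vec x'
  obtain ⟨Ss, hSs, ls⟩ := exists_fg_poly s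
  obtain ⟨Sc, hSc, lc⟩ := exists_fg_vec c
  obtain ⟨Sv, hSv, lv⟩ := exists_fg_fam v
  obtain ⟨Sa, hSa, la⟩ := exists_fg_elts a
  obtain ⟨S₀, hS₀def⟩ : ∃ S₀ : Subalgebra ℤ R,
      S₀ = Sg ⊔ Sg' ⊔ SU ⊔ Sd ⊔ Sx ⊔ Ss ⊔ Sc ⊔ Sv ⊔ Sa := ⟨_, rfl⟩
  have hS₀ : S₀.FG := by
    rw [hS₀def]
    exact ((((((((hSg.sup hSg').sup hSU).sup hSd).sup hSx).sup hSs).sup hSc).sup hSv).sup hSa)
  have le1 : Sg ≤ S₀ := by
    rw [hS₀def]
    exact le_sup_left.trans (le_sup_left.trans (le_sup_left.trans (le_sup_left.trans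
      (le_sup_left.trans (le_sup_left.trans (le_sup_left.trans le_sup_left))))))
  have le2 : Sg' ≤ S₀ := by
    rw [hS₀def]
    exact le_sup_right.trans (le_sup_left.trans (le_sup_left.trans (le_sup_left.trans
      (le_sup_left.trans (le_sup_left.trans (le_sup_left.trans le_sup_left))))))
  have le3 : SU ≤ S₀ := by
    rw [hS₀def]
    exact le_sup_right.trans (le_sup_left.trans (le_sup_left.trans
      (le_sup_left.trans (le_sup_left.trans (le_sup_left.trans le_sup_left)))))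
  have le4 : Sd ≤ S₀ := by
    rw [hS₀def]
    exact le_sup_right.trans (le_sup_left.trans
      (le_sup_left.trans (le_sup_left.trans (le_sup_left.trans le_sup_left))))
  have le5 : Sx ≤ S₀ := by
    rw [hS₀def]
    exact le_sup_right.trans
      (le_sup_left.trans (le_sup_left.trans (le_sup_left.trans le_sup_left)))
  have le6 : Ss ≤ S₀ := by
    rw [hS₀def]
    exact le_sup_right.trans (le_sup_left.trans (le_sup_left.trans le_sup_left))
  have le7 : Sc ≤ S₀ := by
    rw [hS₀def]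
    exact le_sup_right.trans (le_sup_left.trans le_sup_left)
  have le8 : Sv ≤ S₀ := by
    rw [hS₀def]
    exact le_sup_right.trans le_sup_left
  have le9 : Sa ≤ S₀ := by
    rw [hS₀def]
    exact le_sup_right
  obtain ⟨g₀, hg₀⟩ := lg S₀ le1
  obtain ⟨g'₀, hg'₀⟩ := lg' S₀ le2
  obtain ⟨U₀, hU₀⟩ := lU S₀ le3
  obtain ⟨d₀, hd₀⟩ := ld S₀ le4
  obtain ⟨x'₀, hx'₀⟩ := lx S₀ le5
  obtain ⟨s₀, hs₀⟩ := ls S₀ le6
  obtain ⟨c₀, hc₀⟩ := lc S₀ le7
  obtain ⟨v₀, hv₀⟩ := lv S₀ le8
  obtain ⟨a₀, ha₀⟩ := la S₀ le9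
  have hinj : ∀ {n : ℕ}, Injective (mapVec (σ := σ) (inc S₀) (r := n)) := fun {n} =>
    mapVec_injective (inc S₀) (inc_injective S₀)
  have hUfam : (fun j => mapVec (inc S₀) (U₀ j)) = U := funext hU₀
  -- level-0 identities
  have id1 : ∀ i, Uapp U₀ (g'₀ i) = ∑ k, d₀ i k • g₀ k := by
    intro i
    apply hinj
    rw [mapVec_Uapp, hUfam, hg'₀, ← hd i, mapVec_sum]
    refine Finset.sum_congr rfl fun k _ => ?_
    rw [mapVec_smul, hg₀, ← hd₀ i]
    rfl
  have id2 : s₀ • Uapp U₀ x'₀ - ∑ i, c₀ i • g₀ i = ∑ l, a₀ l • v₀ l := by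
    apply hinj
    rw [mapVec_sub, mapVec_smul, mapVec_Uapp, hUfam, hx'₀, hs₀, mapVec_sum, mapVec_sum]
    have e1 : ∑ i, mapVec (inc S₀) (c₀ i • g₀ i) = ∑ i, c i • g i := by
      refine Finset.sum_congr rfl fun i _ => ?_
      rw [mapVec_smul, hg₀, ← hc₀]
      rfl
    have e2 : ∑ l, mapVec (inc S₀) (a₀ l • v₀ l) = ∑ l, a l • v l := by
      refine Finset.sum_congr rfl fun l _ => ?_
      rw [mapVec_smul', hv₀, ha₀]
    rw [e1, e2]
    exact hv
  -- the flat level
  obtain ⟨S₁, h01, hS₁, hflat₁⟩ := exists_flat_level g S₀ hS₀ g₀ hg₀ q hflat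
  haveI := isNoetherianRing_of_fg S₁ hS₁
  have hcomp : ∀ {n : ℕ} (w : Fin n → MvPolynomial σ S₀),
      mapVec (inc S₁) (mapVec (incl h01) w) = mapVec (inc S₀) w := by
    intro n w
    rw [mapVec_mapVec, inc_comp_incl]
  -- level-1 identities
  have id1' : ∀ i, Uapp (fun j => mapVec (incl h01) (U₀ j)) (mapVec (incl h01) (g'₀ i)) ∈
      Kspan (fun i => mapVec (incl h01) (g₀ i)) := by
    intro i
    rw [← mapVec_Uapp, id1 i]
    exact mapVec_mem_Kspan (incl h01) g₀ _ (Submodule.sum_mem _ fun k _ =>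
      Submodule.smul_mem _ _ (Submodule.subset_span ⟨k, rfl⟩))
  have id2' := congrArg (mapVec (incl h01)) id2
  rw [mapVec_sub, mapVec_smul, mapVec_Uapp, mapVec_sum, mapVec_sum] at id2'
  -- the comparison of primes
  have hq₁ : ∀ f : MvPolynomial σ S₁, f ∉ q.comap (MvPolynomial.map (inc S₁)) ↔
      MvPolynomial.map (inc S₁) f ∉ q := fun f => by rw [Ideal.mem_comap]
  have hpp := comap_C_comap_map (σ := σ) (inc S₁) q
  have hgfam : (fun i => mapVec (inc S₁) (mapVec (incl h01) (g₀ i))) = g :=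
    funext fun i => by rw [hcomp, hg₀]
  have hg'fam : (fun i => mapVec (inc S₁) (mapVec (incl h01) (g'₀ i))) = g' :=
    funext fun i => by rw [hcomp, hg'₀]
  have hUfam' : (fun j => mapVec (inc S₁) (mapVec (incl h01) (U₀ j))) = U :=
    funext fun j => by rw [hcomp, hU₀]
  -- the fibre hypothesis at level 1
  have hfib₁ : ∀ y' : Fin r' → MvPolynomial σ S₁,
      (∃ t ∉ q.comap (MvPolynomial.map (inc S₁)),
        ∃ k ∈ Kspan (fun i => mapVec (incl h01) (g₀ i)),
          t • Uapp (fun j => mapVec (incl h01) (U₀ j)) y' - k ∈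
            ((q.comap (MvPolynomial.map (inc S₁))).comap (C : S₁ →+* MvPolynomial σ S₁)) •
              (⊤ : Submodule S₁ (Fin r → MvPolynomial σ S₁))) →
      ∃ t' ∉ q.comap (MvPolynomial.map (inc S₁)),
        ∃ k' ∈ Kspan (fun i => mapVec (incl h01) (g'₀ i)), t' • y' - k' ∈
          ((q.comap (MvPolynomial.map (inc S₁))).comap (C : S₁ →+* MvPolynomial σ S₁)) •
            (⊤ : Submodule S₁ (Fin r' → MvPolynomial σ S₁)) := by
    intro y' ⟨t, ht, k, hk, hmem₁⟩
    have h1 : ∃ t' ∉ q, ∃ k' ∈ Kspan g', t' • mapVec (inc S₁) y' - k' ∈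
        (q.comap (C : R →+* MvPolynomial σ R)) •
          (⊤ : Submodule R (Fin r' → MvPolynomial σ R)) := by
      apply hfib
      refine ⟨MvPolynomial.map (inc S₁) t, (hq₁ t).1 ht, mapVec (inc S₁) k, ?_, ?_⟩
      · have := mapVec_mem_Kspan (inc S₁) _ k hk
        rwa [hgfam] at this
      · have := mapVec_mem_smul_top (inc S₁) _ (q.comap (C : R →+* MvPolynomial σ R))
          (le_of_eq hpp) _ hmem₁
        rwa [mapVec_sub, mapVec_smul, mapVec_Uapp, hUfam'] at this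
    rw [← hg'fam] at h1
    have h2 := fibre_mem_descend (inc S₁) (fun i => mapVec (incl h01) (g'₀ i)) y' q h1
    rw [← hpp] at h2
    exact h2
  -- apply the Noetherian case
  have key := layerB_noeth (R := S₁) (fun i => mapVec (incl h01) (g₀ i))
    (fun i => mapVec (incl h01) (g'₀ i)) (fun j => mapVec (incl h01) (U₀ j)) id1'
    (q.comap (MvPolynomial.map (inc S₁))) hflat₁ hfib₁
    (Ideal.span (Set.range fun l => incl h01 (a₀ l))) (mapVec (incl h01) x'₀) ?_
  · obtain ⟨t', ht', k', hk', hmem'⟩ := key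
    refine ⟨MvPolynomial.map (inc S₁) t', (hq₁ t').1 ht', mapVec (inc S₁) k', ?_, ?_⟩
    · have := mapVec_mem_Kspan (inc S₁) _ k' hk'
      rwa [hg'fam] at this
    · have hle : Ideal.span (Set.range fun l => incl h01 (a₀ l)) ≤ I.comap (inc S₁) := by
        rw [Ideal.span_le]
        rintro _ ⟨l, rfl⟩
        rw [SetLike.mem_coe, Ideal.mem_comap]
        have : inc S₁ (incl h01 (a₀ l)) = a l := by
          rw [← ha₀ l]; rfl
        rw [this, ← ha']
        exact Ideal.subset_span ⟨l, rfl⟩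
      have := mapVec_mem_smul_top (inc S₁) _ I hle _ hmem'
      rwa [mapVec_sub, mapVec_smul, hcomp, hx'₀] at this
  · refine ⟨MvPolynomial.map (incl h01) s₀, ?_, ∑ i, mapVec (incl h01) (c₀ i • g₀ i), ?_, ?_⟩
    · rw [hq₁, MvPolynomial.map_map, inc_comp_incl, hs₀]
      exact hs
    · refine Submodule.sum_mem _ fun i _ => ?_
      rw [mapVec_smul]
      exact Submodule.smul_mem _ _ (Submodule.subset_span ⟨i, rfl⟩)
    · rw [id2']
      refine Submodule.sum_mem _ fun l _ => ?_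
      rw [mapVec_smul']
      exact Submodule.smul_mem_smul (Ideal.subset_span ⟨l, rfl⟩) trivial

end Main

end Groth.Agent.Lib27.FibInj
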