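import Mathlib
import Groth.Agent.Lib27.FibInj.LayerA

/-!
# `I • ⊤` and localized modules: general lemmas
-/

set_option autoImplicit false
set_option linter.style.haveILetI false
set_option linter.unusedSectionVars false

open TensorProduct Function

universe u

namespace Groth.Agent.Lib27.FibInj

section Maps

variable {A : Type*} [CommRing A] {X Y : Type*} [AddCommGroup X] [Module A X] [AddCommGroup Y]
  [Module A Y] (I : Ideal A)

lemma map_mem_smul_top (f : X →ₗ[A] Y) {x : X} (hx : x ∈ I • (⊤ : Submodule A X)) :
    f x ∈ I • (⊤ : Submodule A Y) := by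
  have h1 : f x ∈ (I • (⊤ : Submodule A X)).map f := Submodule.mem_map_of_mem hx
  rw [Submodule.map_smul''] at h1
  exact Submodule.smul_mono le_rfl le_top h1

lemma equiv_mem_smul_top_iff (e : X ≃ₗ[A] Y) (x : X) :
    e x ∈ I • (⊤ : Submodule A Y) ↔ x ∈ I • (⊤ : Submodule A X) := by
  constructor
  · intro h
    have := map_mem_smul_top I e.symm.toLinearMap h
    simpa using this
  · intro h
    exact map_mem_smul_top I e.toLinearMap h

end Maps

section Loc

variable {A B : Type*} [CommRing A] [CommRing B] [Algebra A B] (T : Submonoid B)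
  {X₀ X : Type*} [AddCommGroup X₀] [Module A X₀] [Module B X₀] [IsScalarTower A B X₀]
  [AddCommGroup X] [Module A X] [Module B X] [IsScalarTower A B X]
  (f : X₀ →ₗ[B] X) [IsLocalizedModule T f] (I : Ideal A)

/-- membership of `f x₀` in `I • ⊤` for a localization map `f`. -/
lemma isLoc_mem_smul_top_iff (x₀ : X₀) :
    f x₀ ∈ I • (⊤ : Submodule A X) ↔ ∃ s : T, (s : B) • x₀ ∈ I • (⊤ : Submodule A X₀) := by
  have e := (IsLocalizedModule.iso T f).restrictScalars A
  have he : ∀ z, ((IsLocalizedModule.iso T f).restrictScalars A) z = IsLocalizedModule.iso T f z :=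
    fun _ => rfl
  rw [← mk_mem_smul_top_iff T I x₀ 1,
    ← equiv_mem_smul_top_iff I ((IsLocalizedModule.iso T f).restrictScalars A), he,
    IsLocalizedModule.iso_mk_one]

include f in
/-- elements of `T` can be cancelled for membership in `I • ⊤` of the localization. -/
lemma isLoc_mem_of_smul_mem (s : T) (y : X) (hy : (s : B) • y ∈ I • (⊤ : Submodule A X)) :
    y ∈ I • (⊤ : Submodule A X) := by
  have key : ∀ ξ : LocalizedModule T X₀, ∀ c : T,
      (c : B) • ξ ∈ I • (⊤ : Submodule A (LocalizedModule T X₀)) →
      ξ ∈ I • (⊤ : Submodule A (LocalizedModule T X₀)) := by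
    intro ξ c hc
    induction ξ using LocalizedModule.induction_on with
    | _ z w =>
      have : (c : B) • LocalizedModule.mk z w = LocalizedModule.mk ((c : B) • z) w :=
        LocalizedModule.smul'_mk _ _ _
      rw [this, mk_mem_smul_top_iff] at hc
      obtain ⟨d, hd⟩ := hc
      rw [mk_mem_smul_top_iff]
      exact ⟨d * c, by rw [Submonoid.coe_mul, mul_smul]; exact hd⟩
  have h5 : (IsLocalizedModule.iso T f).symm y ∈
      I • (⊤ : Submodule A (LocalizedModule T X₀)) := by
    apply key _ s
    rw [← map_smul]
    exact (equiv_mem_smul_top_iff I ((IsLocalizedModule.iso T f).symm.restrictScalars A) _).2 hy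
  exact (equiv_mem_smul_top_iff I ((IsLocalizedModule.iso T f).symm.restrictScalars A) y).1 h5

end Loc

end Groth.Agent.Lib27.FibInj
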