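import Mathlib
import Groth.Agent.Lib27.FibInj.LayerB4
import Groth.Agent.Lib27.FibInj.LocLemmas

/-!
# Fibrewise injectivity: central theorem for `q`-locally presented modules over a polynomial ring
-/

set_option autoImplicit false
set_option linter.style.haveILetI false
set_option linter.unusedSectionVars false

open TensorProduct Function MvPolynomial
open Groth.Agent.Lib.Helper18.Fl

universe u

namespace Groth.Agent.Lib27.FibInj

section CT

variable {R : Type u} [CommRing R] {σ : Type} [Finite σ]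

/-- Central theorem: `M`, `N` modules over `P = R[σ]` which are localizations at a prime `q` of
explicitly presented modules; `N` flat over `R`; `u : M → N` injective modulo `p = q ∩ R`.
Then `u` is injective modulo every finitely generated ideal of `R`. -/
theorem central (q : Ideal (MvPolynomial σ R)) [q.IsPrime]
    {M N : Type*} [AddCommGroup M] [Module R M] [Module (MvPolynomial σ R) M]
    [IsScalarTower R (MvPolynomial σ R) M]
    [AddCommGroup N] [Module R N] [Module (MvPolynomial σ R) N]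
    [IsScalarTower R (MvPolynomial σ R) N]
    {m r m' r' : ℕ} (g : Fin m → Fin r → MvPolynomial σ R)
    (g' : Fin m' → Fin r' → MvPolynomial σ R)
    (ψ : ((Fin r → MvPolynomial σ R) ⧸ Kspan g) →ₗ[MvPolynomial σ R] N)
    [IsLocalizedModule q.primeCompl ψ]
    (ψ' : ((Fin r' → MvPolynomial σ R) ⧸ Kspan g') →ₗ[MvPolynomial σ R] M)
    [IsLocalizedModule q.primeCompl ψ']
    (u : M →ₗ[MvPolynomial σ R] N) [Module.Flat R N]
    (hfib : ∀ x : M, u x ∈ (q.comap (C : R →+* MvPolynomial σ R)) • (⊤ : Submodule R N) →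
      x ∈ (q.comap (C : R →+* MvPolynomial σ R)) • (⊤ : Submodule R M))
    (I : Ideal R) (hI : I.FG) (x : M) (hx : u x ∈ I • (⊤ : Submodule R N)) :
    x ∈ I • (⊤ : Submodule R M) := by
  classical
  -- Step 1: a matrix for `u`
  obtain ⟨y, hy⟩ : ∃ y : Fin r' → N, y = fun j => u (ψ' (Submodule.Quotient.mk
    (Pi.single j 1 : Fin r' → MvPolynomial σ R))) := ⟨_, rfl⟩
  obtain ⟨b, hb⟩ := IsLocalizedModule.exist_integer_multiples_of_finite q.primeCompl ψ y
  choose W' hW' using hb
  choose V hV using fun j => Submodule.Quotient.mk_surjective _ (W' j)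
  have claimA : ∀ x' : Fin r' → MvPolynomial σ R,
      ψ (Submodule.Quotient.mk (Uapp V x')) = (b : MvPolynomial σ R) • u (ψ' (Submodule.Quotient.mk x')) := by
    intro x'
    have hx' : x' = ∑ j, x' j • (Pi.single j 1 : Fin r' → MvPolynomial σ R) := by
      funext k
      simp [Finset.sum_apply, Pi.single_apply]
    conv_rhs => rw [hx']
    rw [Uapp_apply, ← Submodule.mkQ_apply, ← Submodule.mkQ_apply, map_sum, map_sum, map_sum,
      map_sum, map_sum, Finset.smul_sum]
    refine Finset.sum_congr rfl fun j _ => ?_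
    rw [map_smul, map_smul, map_smul, map_smul, map_smul, Submodule.mkQ_apply, Submodule.mkQ_apply,
      hV, hW', hy, smul_comm]
  have hzero : ∀ i, ∃ t : q.primeCompl,
      (t : MvPolynomial σ R) • (Submodule.Quotient.mk (Uapp V (g' i)) :
        (Fin r → MvPolynomial σ R) ⧸ Kspan g) = 0 := by
    intro i
    have h0 : (Submodule.Quotient.mk (g' i) : (Fin r' → MvPolynomial σ R) ⧸ Kspan g') = 0 :=
      (Submodule.Quotient.mk_eq_zero _).2 (Submodule.subset_span ⟨i, rfl⟩)
    have h1 : ψ (Submodule.Quotient.mk (Uapp V (g' i))) = 0 := by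
      rw [claimA, h0, map_zero, map_zero, smul_zero]
    obtain ⟨t, ht⟩ := (IsLocalizedModule.eq_zero_iff q.primeCompl ψ).1 h1
    exact ⟨t, ht⟩
  choose t ht using hzero
  obtain ⟨tt, htt⟩ : ∃ tt : q.primeCompl, tt = ∏ i, t i := ⟨_, rfl⟩
  obtain ⟨U, hUdef⟩ : ∃ U : Fin r' → Fin r → MvPolynomial σ R,
      U = fun j => (tt : MvPolynomial σ R) • V j := ⟨_, rfl⟩
  have hUV : ∀ x', Uapp U x' = (tt : MvPolynomial σ R) • Uapp V x' := by
    intro x'
    rw [Uapp_apply, Uapp_apply, hUdef, Finset.smul_sum]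
    refine Finset.sum_congr rfl fun j _ => ?_
    rw [smul_comm]
  have hU : ∀ i, Uapp U (g' i) ∈ Kspan g := by
    intro i
    rw [← Submodule.Quotient.mk_eq_zero, hUV, Submodule.Quotient.mk_smul]
    have : (tt : MvPolynomial σ R) = (∏ i' ∈ Finset.univ.erase i, (t i' : MvPolynomial σ R)) *
        (t i : MvPolynomial σ R) := by
      rw [htt, Submonoid.coe_finsetProd, Finset.prod_erase_mul _ _ (Finset.mem_univ i)]
    rw [this, mul_smul, ht i, smul_zero]
  have claimB : ∀ x' : Fin r' → MvPolynomial σ R,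
      ψ (Submodule.Quotient.mk (Uapp U x')) =
        ((tt * b : q.primeCompl) : MvPolynomial σ R) • u (ψ' (Submodule.Quotient.mk x')) := by
    intro x'
    rw [hUV, Submodule.Quotient.mk_smul, map_smul, claimA, Submonoid.coe_mul, mul_smul]
  -- Step 2: flatness of the presented module
  have hflat : Module.Flat R (LocalizedModule q.primeCompl
      ((Fin r → MvPolynomial σ R) ⧸ Kspan g)) :=
    Module.Flat.of_linearEquiv ((IsLocalizedModule.iso q.primeCompl ψ).restrictScalars R)
  -- Step 3: the fibre hypothesis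
  have hfib' : ∀ x' : Fin r' → MvPolynomial σ R,
      (∃ s ∉ q, ∃ k ∈ Kspan g, s • Uapp U x' - k ∈
        (q.comap (C : R →+* MvPolynomial σ R)) • (⊤ : Submodule R (Fin r → MvPolynomial σ R))) →
      ∃ s' ∉ q, ∃ k' ∈ Kspan g', s' • x' - k' ∈
        (q.comap (C : R →+* MvPolynomial σ R)) •
          (⊤ : Submodule R (Fin r' → MvPolynomial σ R)) := by
    intro x' ⟨s, hs, hmem⟩
    rw [← mk_mem_smul_top_iff_exists, Submodule.Quotient.mk_smul] at hmem
    have h1 := map_mem_smul_top _ (ψ.restrictScalars R) hmem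
    rw [LinearMap.restrictScalars_apply, map_smul, claimB] at h1
    have h2 := isLoc_mem_of_smul_mem q.primeCompl ψ _ ⟨s, hs⟩ _ h1
    have h3 := isLoc_mem_of_smul_mem q.primeCompl ψ _ (tt * b) _ h2
    have h4 := hfib _ h3
    rw [isLoc_mem_smul_top_iff q.primeCompl ψ'] at h4
    obtain ⟨s', hs'⟩ := h4
    refine ⟨s', s'.2, ?_⟩
    rw [← mk_mem_smul_top_iff_exists, Submodule.Quotient.mk_smul]
    exact hs'
  -- Step 4: conclusion
  obtain ⟨⟨w', s₀⟩, hw'⟩ := IsLocalizedModule.surj q.primeCompl ψ' x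
  obtain ⟨x', rfl⟩ := Submodule.Quotient.mk_surjective _ w'
  rw [Submonoid.smul_def] at hw'
  change (s₀ : MvPolynomial σ R) • x = ψ' (Submodule.Quotient.mk x') at hw'
  have h1 : u (ψ' (Submodule.Quotient.mk x')) ∈ I • (⊤ : Submodule R N) := by
    rw [← hw', map_smul]
    exact smul_mem_smul_top I _ hx
  have h2 : ψ (Submodule.Quotient.mk (Uapp U x')) ∈ I • (⊤ : Submodule R N) := by
    rw [claimB]
    exact smul_mem_smul_top I _ h1
  rw [isLoc_mem_smul_top_iff q.primeCompl ψ] at h2
  obtain ⟨s, hs⟩ := h2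
  rw [← Submodule.Quotient.mk_smul, mk_mem_smul_top_iff_exists] at hs
  obtain ⟨s', hs', hmem'⟩ := layerB g g' U hU q hflat hfib' I hI x' ⟨s, s.2, hs⟩
  rw [← mk_mem_smul_top_iff_exists, Submodule.Quotient.mk_smul] at hmem'
  have h3 := map_mem_smul_top _ (ψ'.restrictScalars R) hmem'
  rw [LinearMap.restrictScalars_apply, map_smul, ← hw'] at h3
  have h4 := isLoc_mem_of_smul_mem q.primeCompl ψ' _ ⟨s', hs'⟩ _ h3
  exact isLoc_mem_of_smul_mem q.primeCompl ψ' _ s₀ _ h4

end CT

end Groth.Agent.Lib27.FibInj
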