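import Mathlib
import Groth.Agent.Lib27.Compl.Null1

/-!
# From injectivity modulo all finitely generated ideals to injectivity with flat cokernel
-/

set_option autoImplicit false

open TensorProduct Function

namespace Groth.Agent.Lib27.FibInj

variable {R : Type*} [CommRing R] {M N : Type*} [AddCommGroup M] [Module R M]
  [AddCommGroup N] [Module R N]

/-- If `N` is flat and `u : M → N` is injective modulo every finitely generated ideal, then `u` is
injective with flat cokernel. -/
theorem injective_and_flat_of_forall_mem (u : M →ₗ[R] N) [Module.Flat R N]
    (h : ∀ I : Ideal R, I.FG → ∀ x, u x ∈ I • (⊤ : Submodule R N) → x ∈ I • (⊤ : Submodule R M)) :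
    Injective u ∧ Module.Flat R (N ⧸ LinearMap.range u) := by
  constructor
  · rw [injective_iff_map_eq_zero]
    intro x hx
    have h1 : x ∈ (⊥ : Ideal R) • (⊤ : Submodule R M) :=
      h ⊥ Submodule.fg_bot x (by rw [hx]; exact Submodule.zero_mem _)
    rw [Submodule.bot_smul] at h1
    exact h1
  · rw [Module.Flat.iff_lTensor_injective]
    intro I hI
    exact lTensor_injective_of_exact_of_exact_of_rTensor_injective
      (LinearMap.exact_map_mkQ_range u) (Submodule.mkQ_surjective _)
      (LinearMap.exact_subtype_mkQ I) (Submodule.mkQ_surjective _)
      (Groth.Agent.Lib27.Compl.rTensor_quotient_injective u I (h I hI))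
      (Module.Flat.lTensor_preserves_injective_linearMap _ I.injective_subtype)

end Groth.Agent.Lib27.FibInj
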