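import Mathlib
import Groth.Agent.Lib27.FibInj.CT
import Groth.Agent.Lib27.FibInj.Concl

/-!
# Local presentations: modules over `(P/J)_q` as localizations of explicitly presented `P`-modules
-/

set_option autoImplicit false
set_option linter.style.haveILetI false
set_option linter.unusedSectionVars false

open TensorProduct Function MvPolynomial
open Groth.Agent.Lib.Helper18.Fl

universe u

namespace Groth.Agent.Lib27.FibInj

/-- `S` is the localization at the prime `q` of `P/J`, `P = R[σ]`, via `π : P → S`. -/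
structure IsLocQuot {R S : Type*} [CommRing R] [CommRing S] [Algebra R S] {σ : Type*}
    (π : MvPolynomial σ R →ₐ[R] S) (q J : Ideal (MvPolynomial σ R)) : Prop where
  isUnit : ∀ s, s ∉ q → IsUnit (π s)
  surj : ∀ z : S, ∃ a s, s ∉ q ∧ π s * z = π a
  ker : ∀ a, π a = 0 → ∃ s, s ∉ q ∧ s * a ∈ J
  le_ker : ∀ a ∈ J, π a = 0
  fg : J.FG

namespace IsLocQuot

variable {R S : Type*} [CommRing R] [CommRing S] [Algebra R S] {σ : Type*}
  {π : MvPolynomial σ R →ₐ[R] S} {q J : Ideal (MvPolynomial σ R)}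

theorem surj_vec (h : IsLocQuot π q J) [q.IsPrime] {ι : Type*} [Fintype ι] (v : ι → S) :
    ∃ s, s ∉ q ∧ ∃ w : ι → MvPolynomial σ R, ∀ k, π (w k) = π s * v k := by
  classical
  choose a s hs has using fun k => h.surj (v k)
  refine ⟨∏ k, s k, ?_, fun k => (∏ k' ∈ Finset.univ.erase k, s k') * a k, fun k => ?_⟩
  · intro hmem
    rw [Ideal.IsPrime.prod_mem_iff] at hmem
    obtain ⟨k, _, hk⟩ := hmem
    exact hs k hk
  · rw [map_mul, ← has k, ← mul_assoc, ← map_mul,
      Finset.prod_erase_mul _ _ (Finset.mem_univ k)]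

theorem ker_vec (h : IsLocQuot π q J) [q.IsPrime] {ι : Type*} [Fintype ι]
    (w : ι → MvPolynomial σ R) (hw : ∀ k, π (w k) = 0) :
    ∃ s, s ∉ q ∧ ∀ k, s * w k ∈ J := by
  classical
  choose s hs hsw using fun k => h.ker (w k) (hw k)
  refine ⟨∏ k, s k, ?_, fun k => ?_⟩
  · intro hmem
    rw [Ideal.IsPrime.prod_mem_iff] at hmem
    obtain ⟨k, _, hk⟩ := hmem
    exact hs k hk
  · rw [← Finset.prod_erase_mul _ _ (Finset.mem_univ k), mul_assoc]
    exact Ideal.mul_mem_left _ _ (hsw k)

end IsLocQuot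

section LP

variable {R : Type u} [CommRing R] {S : Type*} [CommRing S] [Algebra R S] {σ : Type} [Finite σ]
  {π : MvPolynomial σ R →ₐ[R] S} {q J : Ideal (MvPolynomial σ R)}

/-- a vector with coordinates in `J` lies in `J • ⊤`. -/
lemma vec_mem_smul_top {r : ℕ} (J : Ideal (MvPolynomial σ R)) (v : Fin r → MvPolynomial σ R)
    (hv : ∀ k, v k ∈ J) :
    v ∈ J • (⊤ : Submodule (MvPolynomial σ R) (Fin r → MvPolynomial σ R)) := by
  classical
  have : v = ∑ k, v k • (Pi.single k 1 : Fin r → MvPolynomial σ R) := by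
    funext k
    simp [Finset.sum_apply, Pi.single_apply]
  rw [this]
  exact Submodule.sum_mem _ fun k _ => Submodule.smul_mem_smul (hv k) trivial

/-- A finitely presented module over `S = (P/J)_q` is the localization at `q` of an explicitly
presented `P`-module. -/
theorem exists_locPres (h : IsLocQuot π q J) [q.IsPrime] (N : Type*) [AddCommGroup N]
    [Module S N] [Module.FinitePresentation S N] [Module (MvPolynomial σ R) N]
    (hPN : ∀ (a : MvPolynomial σ R) (x : N), a • x = π a • x) :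
    ∃ (m r : ℕ) (g : Fin m → Fin r → MvPolynomial σ R)
      (ψ : ((Fin r → MvPolynomial σ R) ⧸ Kspan g) →ₗ[MvPolynomial σ R] N),
      IsLocalizedModule q.primeCompl ψ := by
  classical
  obtain ⟨r, K, e', hK⟩ := Module.FinitePresentation.exists_fin S N
  obtain ⟨e, he⟩ : ∃ e : ((Fin r → S) ⧸ K) ≃ₗ[S] N, e = e'.symm := ⟨_, rfl⟩
  obtain ⟨m₁, κ, hκ⟩ := Submodule.fg_iff_exists_fin_generating_family.mp hK
  choose s hs G hG using fun i => h.surj_vec (κ i)
  -- the map from the free module
  obtain ⟨ψ₀, hψ₀⟩ : ∃ ψ₀ : (Fin r → MvPolynomial σ R) →ₗ[MvPolynomial σ R] N,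
      ∀ w, ψ₀ w = e (Submodule.Quotient.mk (fun k => π (w k)) : (Fin r → S) ⧸ K) := by
    refine ⟨{ toFun := fun w => e (Submodule.Quotient.mk (fun k => π (w k)) : (Fin r → S) ⧸ K)
              map_add' := fun w₁ w₂ => ?_
              map_smul' := fun a w => ?_ }, fun w => rfl⟩
    · have : (fun k => π ((w₁ + w₂) k)) = (fun k => π (w₁ k)) + fun k => π (w₂ k) := by
        funext k; simp
      rw [this, Submodule.Quotient.mk_add, map_add]
    · have : (fun k => π ((a • w) k)) = π a • fun k => π (w k) := by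
        funext k; simp
      rw [this, Submodule.Quotient.mk_smul, map_smul, RingHom.id_apply, hPN]
  -- the relation module
  obtain ⟨KP, hKP⟩ : ∃ KP : Submodule (MvPolynomial σ R) (Fin r → MvPolynomial σ R),
      KP = Submodule.span _ (Set.range G) ⊔
        J • (⊤ : Submodule (MvPolynomial σ R) (Fin r → MvPolynomial σ R)) := ⟨_, rfl⟩
  have hKPfg : KP.FG := by
    rw [hKP]
    refine Submodule.FG.sup (Submodule.fg_span (Set.finite_range G)) ?_
    exact Submodule.FG.smul h.fg (Module.Finite.fg_top)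
  obtain ⟨m, g, hg⟩ := Submodule.fg_iff_exists_fin_generating_family.mp hKPfg
  have hg' : Kspan g = KP := hg
  have hκmem : ∀ i, κ i ∈ K := fun i => by rw [← hκ]; exact Submodule.subset_span ⟨i, rfl⟩
  have hle : Kspan g ≤ LinearMap.ker ψ₀ := by
    rw [hg', hKP]
    refine sup_le ?_ ?_
    · rw [Submodule.span_le]
      rintro _ ⟨i, rfl⟩
      rw [SetLike.mem_coe, LinearMap.mem_ker, hψ₀]
      have : (fun k => π (G i k)) = π (s i) • κ i := by
        funext k
        rw [hG i k]
        rfl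
      rw [this, Submodule.Quotient.mk_smul, (Submodule.Quotient.mk_eq_zero K).2 (hκmem i),
        smul_zero, map_zero]
    · rw [Submodule.smul_le]
      intro j hj w _
      rw [LinearMap.mem_ker, map_smul, hPN, h.le_ker j hj, zero_smul]
  refine ⟨m, r, g, (Kspan g).liftQ ψ₀ hle, ?_⟩
  have hψmk : ∀ w, (Kspan g).liftQ ψ₀ hle (Submodule.Quotient.mk w) = ψ₀ w := fun w =>
    Submodule.liftQ_apply _ _ _
  constructor
  · -- units
    intro t
    rw [Module.End.isUnit_iff]
    have hu := h.isUnit t t.2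
    constructor
    · intro x y hxy
      simp only [Module.algebraMap_end_apply] at hxy
      rw [hPN, hPN] at hxy
      exact hu.smul_left_cancel.1 hxy
    · intro y
      obtain ⟨v, hv⟩ := hu.exists_left_inv
      refine ⟨v • y, ?_⟩
      simp only [Module.algebraMap_end_apply]
      rw [hPN, smul_smul, mul_comm, hv, one_smul]
  · -- surjectivity up to denominators
    intro y
    obtain ⟨z, rfl⟩ := e.surjective y
    obtain ⟨v, rfl⟩ := Submodule.Quotient.mk_surjective _ z
    obtain ⟨t, ht, w, hw⟩ := h.surj_vec v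
    refine ⟨⟨Submodule.Quotient.mk w, ⟨t, ht⟩⟩, ?_⟩
    rw [hψmk, hψ₀, Submonoid.smul_def]
    change t • e (Submodule.Quotient.mk v) = _
    rw [hPN, ← map_smul, ← Submodule.Quotient.mk_smul]
    congr 2
    funext k
    rw [hw k]
    rfl
  · -- kernel
    intro x₁ x₂ hx
    obtain ⟨w₁, rfl⟩ := Submodule.Quotient.mk_surjective _ x₁
    obtain ⟨w₂, rfl⟩ := Submodule.Quotient.mk_surjective _ x₂
    rw [hψmk, hψmk] at hx
    have h0 : ψ₀ (w₁ - w₂) = 0 := by rw [map_sub, hx, sub_self]
    obtain ⟨w, hwdef⟩ : ∃ w, w = w₁ - w₂ := ⟨_, rfl⟩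
    rw [← hwdef] at h0
    rw [hψ₀, LinearEquiv.map_eq_zero_iff, Submodule.Quotient.mk_eq_zero, ← hκ] at h0
    obtain ⟨z, hz⟩ := (Submodule.mem_span_range_iff_exists_fun _).1 h0
    obtain ⟨s₁, hs₁, a, ha⟩ := h.surj_vec z
    obtain ⟨sG, hsG⟩ : ∃ sG, sG = ∏ i, s i := ⟨_, rfl⟩
    have hsGq : sG ∉ q := by
      rw [hsG]
      intro hmem
      rw [Ideal.IsPrime.prod_mem_iff] at hmem
      obtain ⟨i, _, hi⟩ := hmem
      exact hs i hi
    obtain ⟨W, hW⟩ : ∃ W : Fin r → MvPolynomial σ R, W = (sG * s₁) • w -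
        ∑ i, ((∏ i' ∈ Finset.univ.erase i, s i') * a i) • G i := ⟨_, rfl⟩
    have hWker : ∀ k, π (W k) = 0 := by
      intro k
      have hzk : ∑ i, z i * κ i k = π (w k) := by
        have := congrFun hz k
        simpa [Finset.sum_apply] using this
      rw [hW]
      simp only [Pi.sub_apply, Pi.smul_apply, Finset.sum_apply, smul_eq_mul, map_sub, map_mul,
        map_sum]
      rw [← hzk, Finset.mul_sum, sub_eq_zero]
      refine Finset.sum_congr rfl fun i _ => ?_
      rw [hG i k, ha i, hsG, ← Finset.prod_erase_mul _ _ (Finset.mem_univ i), map_mul]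
      ring
    obtain ⟨c, hc, hcW⟩ := h.ker_vec W hWker
    have hcWmem : c • W ∈ Kspan g := by
      rw [hg', hKP]
      exact Submodule.mem_sup_right (vec_mem_smul_top J _ fun k => hcW k)
    have hGmem : ∑ i, ((∏ i' ∈ Finset.univ.erase i, s i') * a i) • G i ∈ Kspan g := by
      rw [hg', hKP]
      exact Submodule.mem_sup_left (Submodule.sum_mem _ fun i _ =>
        Submodule.smul_mem _ _ (Submodule.subset_span ⟨i, rfl⟩))
    have hfinal : (c * (sG * s₁)) • w ∈ Kspan g := by
      have : (c * (sG * s₁)) • w = c • W +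
          c • ∑ i, ((∏ i' ∈ Finset.univ.erase i, s i') * a i) • G i := by
        rw [hW, smul_sub, sub_add_cancel, mul_smul]
      rw [this]
      exact Submodule.add_mem _ hcWmem (Submodule.smul_mem _ _ hGmem)
    have hcq : c * (sG * s₁) ∉ q := fun hmem =>
      (Ideal.IsPrime.mem_or_mem inferInstance hmem).elim hc fun h' =>
        (Ideal.IsPrime.mem_or_mem inferInstance h').elim hsGq hs₁
    refine ⟨⟨c * (sG * s₁), hcq⟩, ?_⟩
    rw [Submonoid.smul_def, Submonoid.smul_def]
    change (c * (sG * s₁)) • (Submodule.Quotient.mk w₁ : _ ⧸ Kspan g) =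
      (c * (sG * s₁)) • Submodule.Quotient.mk w₂
    rw [← sub_eq_zero, ← smul_sub, ← Submodule.Quotient.mk_sub, ← Submodule.Quotient.mk_smul,
      Submodule.Quotient.mk_eq_zero, ← hwdef]
    exact hfinal

end LP

end Groth.Agent.Lib27.FibInj
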