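import Mathlib
import Groth.Agent.Lib27.FibInj.LocPres

/-!
# Fibrewise injectivity criterion (non-Noetherian, essentially finitely presented form)
-/

set_option autoImplicit false
set_option linter.style.haveILetI false
set_option linter.unusedSectionVars false

open TensorProduct Function MvPolynomial
open Groth.Agent.Lib.Helper18.Fl

universe u

namespace Groth.Agent.Lib27.FibInj

/-- Theorem D: `S = (R[σ]/J)_q`, `M`, `N` finitely presented `S`-modules, `N` flat over `R`,
`u : M → N` injective modulo `p = q ∩ R`. Then `u` is injective with `R`-flat cokernel. -/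
theorem fibInj_of_isLocQuot {R : Type u} [CommRing R] {S : Type*} [CommRing S] [Algebra R S]
    {σ : Type} [Finite σ] {π : MvPolynomial σ R →ₐ[R] S} {q J : Ideal (MvPolynomial σ R)}
    (h : IsLocQuot π q J) [q.IsPrime]
    {M N : Type*} [AddCommGroup M] [Module S M] [Module R M] [IsScalarTower R S M]
    [Module.FinitePresentation S M]
    [AddCommGroup N] [Module S N] [Module R N] [IsScalarTower R S N]
    [Module.FinitePresentation S N] [Module.Flat R N]
    (u : M →ₗ[S] N)
    (hu : ∀ x : M, u x ∈ (q.comap (C : R →+* MvPolynomial σ R)) • (⊤ : Submodule R N) →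
      x ∈ (q.comap (C : R →+* MvPolynomial σ R)) • (⊤ : Submodule R M)) :
    Injective u ∧ Module.Flat R (N ⧸ LinearMap.range (u.restrictScalars R)) := by
  letI : Module (MvPolynomial σ R) M := Module.compHom M (π : MvPolynomial σ R →+* S)
  letI : Module (MvPolynomial σ R) N := Module.compHom N (π : MvPolynomial σ R →+* S)
  have hPM : ∀ (a : MvPolynomial σ R) (x : M), a • x = π a • x := fun _ _ => rfl
  have hPN : ∀ (a : MvPolynomial σ R) (x : N), a • x = π a • x := fun _ _ => rfl
  haveI : IsScalarTower R (MvPolynomial σ R) M := ⟨fun c a x => by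
    rw [hPM, hPM, map_smul, smul_assoc]⟩
  haveI : IsScalarTower R (MvPolynomial σ R) N := ⟨fun c a x => by
    rw [hPN, hPN, map_smul, smul_assoc]⟩
  obtain ⟨m, r, g, ψ, hψ⟩ := exists_locPres h N hPN
  obtain ⟨m', r', g', ψ', hψ'⟩ := exists_locPres h M hPM
  let uP : M →ₗ[MvPolynomial σ R] N :=
    { toFun := u
      map_add' := u.map_add
      map_smul' := fun a x => by
        rw [hPM, RingHom.id_apply, hPN]; exact u.map_smul _ _ }
  have key := central q g g' ψ ψ' uP hu
  exact injective_and_flat_of_forall_mem (u.restrictScalars R) (fun I hI x hx => key I hI x hx)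

end Groth.Agent.Lib27.FibInj
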