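import Mathlib
import Groth.Agent.Lib27.FibInj.Main

/-!
# Local rings essentially of finite presentation are of the form `(R[σ]/J)_q`
-/

set_option autoImplicit false
set_option linter.style.haveILetI false
set_option linter.unusedSectionVars false

open TensorProduct Function MvPolynomial
open Groth.Agent.Lib.Helper18.Fl

universe u

namespace Groth.Agent.Lib27.FibInj

theorem isLocQuot_of_isLocalization {R : Type u} [CommRing R] {S₀ S : Type*} [CommRing S₀]
    [CommRing S] [Algebra R S₀] [Algebra R S] [Algebra S₀ S] [IsScalarTower R S₀ S]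
    (Msub : Submonoid S₀) [IsLocalization Msub S] [IsLocalRing S] {n : ℕ}
    (f : MvPolynomial (Fin n) R →ₐ[R] S₀) (hf : Surjective f)
    (hker : (RingHom.ker f.toRingHom).FG) :
    IsLocQuot ((IsScalarTower.toAlgHom R S₀ S).comp f)
      ((IsLocalRing.maximalIdeal S).comap ((IsScalarTower.toAlgHom R S₀ S).comp f))
      (RingHom.ker f.toRingHom) := by
  have hπ : ∀ a, ((IsScalarTower.toAlgHom R S₀ S).comp f) a = algebraMap S₀ S (f a) := fun _ => rfl
  have hunit : ∀ s, f s ∈ Msub → s ∉ (IsLocalRing.maximalIdeal S).comap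
      ((IsScalarTower.toAlgHom R S₀ S).comp f) := by
    intro s hs hmem
    rw [Ideal.mem_comap, hπ, IsLocalRing.mem_maximalIdeal, mem_nonunits_iff] at hmem
    exact hmem (IsLocalization.map_units S ⟨f s, hs⟩)
  refine ⟨?_, ?_, ?_, ?_, hker⟩
  · intro s hs
    rw [Ideal.mem_comap, IsLocalRing.mem_maximalIdeal, mem_nonunits_iff, not_not] at hs
    exact hs
  · intro z
    obtain ⟨a₀, t₀, rfl⟩ := IsLocalization.exists_mk'_eq Msub z
    obtain ⟨a, rfl⟩ := hf a₀
    obtain ⟨s, hs⟩ := hf (t₀ : S₀)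
    refine ⟨a, s, hunit s (by rw [hs]; exact t₀.2), ?_⟩
    rw [hπ, hπ, hs, mul_comm, IsLocalization.mk'_spec]
  · intro a ha
    rw [hπ, IsLocalization.map_eq_zero_iff Msub] at ha
    obtain ⟨t, ht⟩ := ha
    obtain ⟨s, hs⟩ := hf (t : S₀)
    refine ⟨s, hunit s (by rw [hs]; exact t.2), ?_⟩
    change f.toRingHom (s * a) = 0
    rw [map_mul]
    change f s * f a = 0
    rw [hs, ht]
  · intro a ha
    rw [hπ]
    have : f a = 0 := ha
    rw [this, map_zero]

end Groth.Agent.Lib27.FibInj
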