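import Mathlib
import Groth.Agent.Lib27.FibInj.EssFP

/-!
# Fibrewise injectivity criterion at a prime of a finitely presented algebra
-/

set_option autoImplicit false
set_option linter.style.haveILetI false
set_option linter.unusedSectionVars false

open TensorProduct Function MvPolynomial
open Groth.Agent.Lib.Helper18.Fl

universe u

namespace Groth.Agent.Lib27.FibInj

/-- `B` finitely presented over `A`, `q` a prime of `B` over `p`, `M`, `N` finitely presented
`B`-modules with `N_q` flat over `A`, `u : M → N` a `B`-linear map such that `u_q` is injective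
modulo `p`. Then `u_q` is injective and its cokernel is flat over `A`. -/
theorem fibInj_at_prime {A : Type u} [CommRing A] {B : Type*} [CommRing B] [Algebra A B]
    [Algebra.FinitePresentation A B] (q : Ideal B) [q.IsPrime]
    {M N : Type*} [AddCommGroup M] [Module B M] [Module A M] [IsScalarTower A B M]
    [Module.FinitePresentation B M]
    [AddCommGroup N] [Module B N] [Module A N] [IsScalarTower A B N]
    [Module.FinitePresentation B N] [Module.Flat A (LocalizedModule q.primeCompl N)]
    (u : M →ₗ[B] N)
    (hu : ∀ x : M, (∃ s ∉ q, s • u x ∈ (q.comap (algebraMap A B)) • (⊤ : Submodule A N)) →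
      ∃ s ∉ q, s • x ∈ (q.comap (algebraMap A B)) • (⊤ : Submodule A M)) :
    Injective (LocalizedModule.map q.primeCompl u) ∧
      Module.Flat A (LocalizedModule q.primeCompl N ⧸
        LinearMap.range ((LocalizedModule.map q.primeCompl u).restrictScalars A)) := by
  obtain ⟨n, f, hf, hker⟩ := (inferInstance : Algebra.FinitePresentation A B).out
  have hLQ := isLocQuot_of_isLocalization (R := A) (S := Localization.AtPrime q) q.primeCompl f
    hf hker
  have hq : ((IsLocalRing.maximalIdeal (Localization.AtPrime q)).comap
      ((IsScalarTower.toAlgHom A B (Localization.AtPrime q)).comp f)).comap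
      (MvPolynomial.C : A →+* MvPolynomial (Fin n) A) = q.comap (algebraMap A B) := by
    ext x
    simp only [Ideal.mem_comap]
    have : ((IsScalarTower.toAlgHom A B (Localization.AtPrime q)).comp f) (MvPolynomial.C x) =
        algebraMap B (Localization.AtPrime q) (algebraMap A B x) := by
      rw [← MvPolynomial.algebraMap_eq, AlgHom.commutes, IsScalarTower.algebraMap_apply A B]
    rw [this, IsLocalization.AtPrime.to_map_mem_maximal_iff (Localization.AtPrime q) q]
  have hprime : ((IsLocalRing.maximalIdeal (Localization.AtPrime q)).comap
      ((IsScalarTower.toAlgHom A B (Localization.AtPrime q)).comp f)).IsPrime :=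
    Ideal.comap_isPrime _ _
  refine fibInj_of_isLocQuot hLQ (LocalizedModule.map q.primeCompl u) ?_
  rw [hq]
  intro x hx
  induction x using LocalizedModule.induction_on with
  | _ y t =>
    rw [LocalizedModule.map_mk, mk_mem_smul_top_iff] at hx
    obtain ⟨s, hs⟩ := hx
    obtain ⟨s', hs', h'⟩ := hu y ⟨s, s.2, hs⟩
    rw [mk_mem_smul_top_iff]
    exact ⟨⟨s', hs'⟩, h'⟩

/-- Variant of `fibInj_at_prime` for an arbitrary linear map of finitely presented modules over
the local ring `B_q`. -/
theorem fibInj_localization {A : Type u} [CommRing A] {B : Type*} [CommRing B] [Algebra A B]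
    [Algebra.FinitePresentation A B] (q : Ideal B) [q.IsPrime]
    {M N : Type*} [AddCommGroup M] [Module (Localization.AtPrime q) M] [Module A M]
    [IsScalarTower A (Localization.AtPrime q) M]
    [Module.FinitePresentation (Localization.AtPrime q) M]
    [AddCommGroup N] [Module (Localization.AtPrime q) N] [Module A N]
    [IsScalarTower A (Localization.AtPrime q) N]
    [Module.FinitePresentation (Localization.AtPrime q) N] [Module.Flat A N]
    (u : M →ₗ[Localization.AtPrime q] N)
    (hu : ∀ x : M, u x ∈ (q.comap (algebraMap A B)) • (⊤ : Submodule A N) →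
      x ∈ (q.comap (algebraMap A B)) • (⊤ : Submodule A M)) :
    Injective u ∧ Module.Flat A (N ⧸ LinearMap.range (u.restrictScalars A)) := by
  obtain ⟨n, f, hf, hker⟩ := (inferInstance : Algebra.FinitePresentation A B).out
  have hLQ := isLocQuot_of_isLocalization (R := A) (S := Localization.AtPrime q) q.primeCompl f
    hf hker
  have hq : ((IsLocalRing.maximalIdeal (Localization.AtPrime q)).comap
      ((IsScalarTower.toAlgHom A B (Localization.AtPrime q)).comp f)).comap
      (MvPolynomial.C : A →+* MvPolynomial (Fin n) A) = q.comap (algebraMap A B) := by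
    ext x
    simp only [Ideal.mem_comap]
    have : ((IsScalarTower.toAlgHom A B (Localization.AtPrime q)).comp f) (MvPolynomial.C x) =
        algebraMap B (Localization.AtPrime q) (algebraMap A B x) := by
      rw [← MvPolynomial.algebraMap_eq, AlgHom.commutes, IsScalarTower.algebraMap_apply A B]
    rw [this, IsLocalization.AtPrime.to_map_mem_maximal_iff (Localization.AtPrime q) q]
  have hprime : ((IsLocalRing.maximalIdeal (Localization.AtPrime q)).comap
      ((IsScalarTower.toAlgHom A B (Localization.AtPrime q)).comp f)).IsPrime :=
    Ideal.comap_isPrime _ _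
  refine fibInj_of_isLocQuot hLQ u ?_
  rw [hq]
  exact hu

end Groth.Agent.Lib27.FibInj
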