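import Mathlib

/-!
# Utilities: quotients by `r`, localization and tensor products
-/

set_option autoImplicit false
set_option linter.style.haveILetI false
set_option linter.unusedSectionVars false

open TensorProduct Function
open scoped Pointwise

namespace Groth.Agent.Lib27.FibInj

section U1

variable {B : Type*} [CommRing B] (r : B) {Y Z : Type*} [AddCommGroup Y] [Module B Y]
  [AddCommGroup Z] [Module B Z]

/-- A surjection with kernel `r • ⊤` identifies the target with `Y / rY`. -/
noncomputable def quotSMulTopEquivOfKer (π : Y →ₗ[B] Z) (hsurj : Surjective π)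
    (hker : LinearMap.ker π = r • (⊤ : Submodule B Y)) : QuotSMulTop r Y ≃ₗ[B] Z :=
  (Submodule.quotEquivOfEq _ _ hker.symm) ≪≫ₗ (π.quotKerEquivOfSurjective hsurj)

end U1

section U2

variable {B : Type*} [CommRing B] (S : Submonoid B) (r : B) (X : Type*) [AddCommGroup X]
  [Module B X]

/-- the localization of `X → X/rX` as a `B`-linear map -/
noncomputable def locMkQ : LocalizedModule S X →ₗ[B] LocalizedModule S (QuotSMulTop r X) :=
  (LocalizedModule.map S (Submodule.mkQ (r • (⊤ : Submodule B X)))).restrictScalars B

lemma locMkQ_mk (x : X) (s : S) :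
    locMkQ S r X (LocalizedModule.mk x s) =
      LocalizedModule.mk (Submodule.Quotient.mk x : QuotSMulTop r X) s := by
  change LocalizedModule.map S _ (LocalizedModule.mk x s) = _
  rw [LocalizedModule.map_mk]
  rfl

lemma locMkQ_surjective : Surjective (locMkQ S r X) := by
  intro y
  induction y using LocalizedModule.induction_on with
  | _ z s =>
    obtain ⟨x, rfl⟩ := Submodule.Quotient.mk_surjective _ z
    exact ⟨LocalizedModule.mk x s, locMkQ_mk S r X x s⟩

lemma ker_locMkQ : LinearMap.ker (locMkQ S r X) = r • (⊤ : Submodule B (LocalizedModule S X)) := by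
  ext y
  rw [LinearMap.mem_ker, Submodule.mem_smul_pointwise_iff_exists]
  constructor
  · intro hy
    induction y using LocalizedModule.induction_on with
    | _ x s =>
      rw [locMkQ_mk, ← LocalizedModule.zero_mk s, LocalizedModule.mk_eq] at hy
      obtain ⟨t, ht⟩ := hy
      rw [smul_zero, smul_zero, ← mul_smul, Submonoid.smul_def, ← Submodule.Quotient.mk_smul,
        Submodule.Quotient.mk_eq_zero, Submodule.mem_smul_pointwise_iff_exists] at ht
      obtain ⟨x', -, hx'⟩ := ht
      refine ⟨LocalizedModule.mk x' (t * s * s), trivial, ?_⟩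
      rw [LocalizedModule.smul'_mk, hx', ← Submonoid.smul_def, LocalizedModule.mk_cancel_common_left]
  · rintro ⟨y', -, rfl⟩
    rw [map_smul]
    induction y' using LocalizedModule.induction_on with
    | _ x s =>
      rw [locMkQ_mk, LocalizedModule.smul'_mk, ← Submodule.Quotient.mk_smul,
        (Submodule.Quotient.mk_eq_zero _).2 (Submodule.smul_mem_pointwise_smul x r ⊤ Submodule.mem_top),
        LocalizedModule.zero_mk]

/-- `(X_S)/r ≅ (X/r)_S` -/
noncomputable def quotLocEquiv :
    QuotSMulTop r (LocalizedModule S X) ≃ₗ[B] LocalizedModule S (QuotSMulTop r X) :=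
  quotSMulTopEquivOfKer r (locMkQ S r X) (locMkQ_surjective S r X) (ker_locMkQ S r X)

variable {X} {Y : Type*} [AddCommGroup Y] [Module B Y]

/-- a linear equivalence induces an equivalence of localized modules -/
noncomputable def locCongr (e : X ≃ₗ[B] Y) : LocalizedModule S X ≃ₗ[B] LocalizedModule S Y :=
  LinearEquiv.ofLinear ((LocalizedModule.map S e.toLinearMap).restrictScalars B)
    ((LocalizedModule.map S e.symm.toLinearMap).restrictScalars B)
    (by
      ext y
      induction y using LocalizedModule.induction_on with
      | _ x s =>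
        simp only [LinearMap.coe_comp, LinearMap.coe_restrictScalars, comp_apply,
          LocalizedModule.map_mk, LinearEquiv.coe_coe, LinearEquiv.apply_symm_apply,
          LinearMap.id_coe, id_eq])
    (by
      ext y
      induction y using LocalizedModule.induction_on with
      | _ x s =>
        simp only [LinearMap.coe_comp, LinearMap.coe_restrictScalars, comp_apply,
          LocalizedModule.map_mk, LinearEquiv.coe_coe, LinearEquiv.symm_apply_apply,
          LinearMap.id_coe, id_eq])

lemma locCongr_mk (e : X ≃ₗ[B] Y) (x : X) (s : S) :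
    locCongr S e (LocalizedModule.mk x s) = LocalizedModule.mk (e x) s := by
  change LocalizedModule.map S _ (LocalizedModule.mk x s) = _
  rw [LocalizedModule.map_mk]
  rfl

end U2

section U3

variable (A : Type*) {B : Type*} [CommRing A] [CommRing B] [Algebra A B] (r : B) (M : Type*)
  [AddCommGroup M] [Module B M] [Module A M] [IsScalarTower A B M] (K : Type*) [AddCommGroup K]
  [Module A K]

/-- `M ⊗ K → (M/r) ⊗ K` as a `B`-linear map -/
noncomputable def tensorMkQ : M ⊗[A] K →ₗ[B] (QuotSMulTop r M) ⊗[A] K :=
  TensorProduct.AlgebraTensorModule.rTensor A K (Submodule.mkQ (r • (⊤ : Submodule B M)))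

lemma tensorMkQ_surjective : Surjective (tensorMkQ A r M K) :=
  LinearMap.rTensor_surjective (R := A) K
    (g := (Submodule.mkQ (r • (⊤ : Submodule B M))).restrictScalars A)
    (Submodule.mkQ_surjective _)

lemma ker_tensorMkQ :
    LinearMap.ker (tensorMkQ A r M K) = r • (⊤ : Submodule B (M ⊗[A] K)) := by
  have hex : Exact ((LinearMap.lsmul B M r).restrictScalars A)
      ((Submodule.mkQ (r • (⊤ : Submodule B M))).restrictScalars A) := by
    intro y
    simp only [LinearMap.coe_restrictScalars, Submodule.mkQ_apply, Submodule.Quotient.mk_eq_zero,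
      Submodule.mem_smul_pointwise_iff_exists, Set.mem_range, LinearMap.lsmul_apply,
      Submodule.mem_top, true_and]
  have h1 := rTensor_exact K hex (Submodule.mkQ_surjective _)
  have h2 : LinearMap.rTensor K ((LinearMap.lsmul B M r).restrictScalars A) =
      (LinearMap.lsmul B (M ⊗[A] K) r).restrictScalars A := by
    apply TensorProduct.ext'
    intro m k
    rfl
  ext z
  rw [LinearMap.mem_ker, Submodule.mem_smul_pointwise_iff_exists]
  have h3 := h1 z
  rw [h2] at h3
  change (tensorMkQ A r M K z = 0 ↔ _) at h3
  rw [h3]
  simp only [Set.mem_range, LinearMap.coe_restrictScalars, LinearMap.lsmul_apply,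
    Submodule.mem_top, true_and]

/-- `(M ⊗ K)/r ≅ (M/r) ⊗ K` -/
noncomputable def tensorQuotEquiv :
    QuotSMulTop r (M ⊗[A] K) ≃ₗ[B] (QuotSMulTop r M) ⊗[A] K :=
  quotSMulTopEquivOfKer r (tensorMkQ A r M K) (tensorMkQ_surjective A r M K) (ker_tensorMkQ A r M K)

end U3

end Groth.Agent.Lib27.FibInj
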