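import Mathlib
import Groth.Agent.Lib27.FibInj.AtPrime
import Groth.Agent.Lib27.FibInj.RegSeq1
import Groth.Agent.Lib.Helper26.FiberAss

/-!
# Regular sequences on fibres lift (EGA IV 11.3.8, non-Noetherian finitely presented form)
-/

set_option autoImplicit false
set_option linter.style.haveILetI false
set_option linter.unusedSectionVars false

open TensorProduct Function
open scoped Pointwise

universe u

namespace Groth.Agent.Lib27.FibInj

section RS

variable {A B : Type u} [CommRing A] [CommRing B] [Algebra A B] (q : Ideal B) [q.IsPrime]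

/-- the fibre hypothesis of `fibInj_at_prime` for multiplication by `r`. -/
lemma fibre_hyp_of_isSMulRegular (M : Type u) [AddCommGroup M] [Module B M] [Module A M]
    [IsScalarTower A B M] (r : B)
    (hr : IsSMulRegular
      (LocalizedModule q.primeCompl (M ⊗[A] (q.comap (algebraMap A B)).ResidueField)) r)
    (x : M)
    (hx : ∃ s ∉ q, s • (LinearMap.lsmul B M r) x ∈
      (q.comap (algebraMap A B)) • (⊤ : Submodule A M)) :
    ∃ s ∉ q, s • x ∈ (q.comap (algebraMap A B)) • (⊤ : Submodule A M) := by
  obtain ⟨s, hs, hmem⟩ := hx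
  rw [LinearMap.lsmul_apply] at hmem
  have h1 := Groth.Agent.Lib.Helper26.FiberAss.tmul_one_eq_zero_of_mem
    (q.comap (algebraMap A B)) M hmem
  have h2 : (⟨s, hs⟩ : q.primeCompl) • (r • (LocalizedModule.mk
      (x ⊗ₜ[A] (1 : (q.comap (algebraMap A B)).ResidueField)) (1 : q.primeCompl))) = 0 := by
    rw [LocalizedModule.smul'_mk, Submonoid.smul_def, LocalizedModule.smul'_mk,
      TensorProduct.smul_tmul', TensorProduct.smul_tmul']
    change LocalizedModule.mk ((s • r • x) ⊗ₜ[A] (1 : (q.comap (algebraMap A B)).ResidueField))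
      (1 : q.primeCompl) = 0
    rw [h1, LocalizedModule.zero_mk]
  have h3 : r • (LocalizedModule.mk
      (x ⊗ₜ[A] (1 : (q.comap (algebraMap A B)).ResidueField)) (1 : q.primeCompl)) = 0 := by
    have := (IsLocalizedModule.smul_inj (LocalizedModule.mkLinearMap q.primeCompl
      (M ⊗[A] (q.comap (algebraMap A B)).ResidueField)) (⟨s, hs⟩ : q.primeCompl) _ 0).1
      (h2.trans (smul_zero _).symm)
    exact this
  have h4 : LocalizedModule.mk
      (x ⊗ₜ[A] (1 : (q.comap (algebraMap A B)).ResidueField)) (1 : q.primeCompl) = 0 :=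
    hr (h3.trans (smul_zero r).symm)
  have h5 : LocalizedModule.mkLinearMap q.primeCompl
      (M ⊗[A] (q.comap (algebraMap A B)).ResidueField)
      (x ⊗ₜ[A] (1 : (q.comap (algebraMap A B)).ResidueField)) = 0 := h4
  rw [IsLocalizedModule.eq_zero_iff q.primeCompl] at h5
  obtain ⟨s', hs'⟩ := h5
  rw [Submonoid.smul_def, TensorProduct.smul_tmul',
    Groth.Agent.Lib.Helper26.FiberAss.tmul_one_eq_zero_iff] at hs'
  obtain ⟨a, ha, hmem'⟩ := hs'
  refine ⟨algebraMap A B a * s', fun hmul => ?_, ?_⟩
  · rcases Ideal.IsPrime.mem_or_mem inferInstance hmul with h | h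
    · exact ha h
    · exact s'.2 h
  · rw [mul_smul, algebraMap_smul]
    exact hmem'

variable [Algebra.FinitePresentation A B]

/-- one step: `r` regular on the localized fibre ⟹ `r` regular on `M_q` and `(M/rM)_q` flat. -/
lemma step (M : Type u) [AddCommGroup M] [Module B M] [Module A M]
    [IsScalarTower A B M] [Module.FinitePresentation B M]
    [Module.Flat A (LocalizedModule q.primeCompl M)] (r : B)
    (hr : IsSMulRegular
      (LocalizedModule q.primeCompl (M ⊗[A] (q.comap (algebraMap A B)).ResidueField)) r) :
    IsSMulRegular (LocalizedModule q.primeCompl M) r ∧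
      Module.Flat A (LocalizedModule q.primeCompl (QuotSMulTop r M)) := by
  obtain ⟨hinj, hflat⟩ := fibInj_at_prime q (LinearMap.lsmul B M r)
    (fibre_hyp_of_isSMulRegular q M r hr)
  have hmap : ∀ y : LocalizedModule q.primeCompl M,
      LocalizedModule.map q.primeCompl (LinearMap.lsmul B M r) y = r • y := by
    intro y
    induction y using LocalizedModule.induction_on with
    | _ x s => rw [LocalizedModule.map_mk, LocalizedModule.smul'_mk, LinearMap.lsmul_apply]
  constructor
  · intro y₁ y₂ h
    apply hinj
    rw [hmap, hmap]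
    exact h
  · have hsurj : Surjective ((locMkQ q.primeCompl r M).restrictScalars A) :=
      locMkQ_surjective q.primeCompl r M
    have hker : LinearMap.ker ((locMkQ q.primeCompl r M).restrictScalars A) =
        LinearMap.range ((LocalizedModule.map q.primeCompl
          (LinearMap.lsmul B M r)).restrictScalars A) := by
      ext y
      have h1 : y ∈ LinearMap.ker (locMkQ q.primeCompl r M) ↔
          y ∈ r • (⊤ : Submodule B (LocalizedModule q.primeCompl M)) := by
        rw [ker_locMkQ]
      rw [LinearMap.mem_ker, LinearMap.restrictScalars_apply, ← LinearMap.mem_ker, h1,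
        Submodule.mem_smul_pointwise_iff_exists, LinearMap.mem_range]
      constructor
      · rintro ⟨y', -, rfl⟩
        exact ⟨y', hmap y'⟩
      · rintro ⟨y', rfl⟩
        exact ⟨y', trivial, (hmap y').symm⟩
    exact Module.Flat.of_linearEquiv
      (((Submodule.quotEquivOfEq _ _ hker.symm) ≪≫ₗ
        (LinearMap.quotKerEquivOfSurjective _ hsurj)).symm)

lemma finitePresentation_quotSMulTop (M : Type u) [AddCommGroup M] [Module B M]
    [Module.FinitePresentation B M] (r : B) : Module.FinitePresentation B (QuotSMulTop r M) := by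
  refine Module.finitePresentation_of_surjective (Submodule.mkQ _) (Submodule.mkQ_surjective _) ?_
  rw [Submodule.ker_mkQ, ← Submodule.ideal_span_singleton_smul]
  exact Submodule.FG.smul (Submodule.fg_span_singleton r) Module.Finite.fg_top

end RS

end Groth.Agent.Lib27.FibInj
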