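import Mathlib

/-!
# Universally injective maps: injective with flat cokernel; localization at elements acting
universally injectively
-/

set_option autoImplicit false
set_option linter.style.haveILetI false
set_option linter.unusedSectionVars false

open TensorProduct Function

universe w

namespace Groth.Agent.Lib27.FibInj

section A

variable {R : Type*} [CommRing R] {M N : Type*} [AddCommGroup M] [Module R M]
  [AddCommGroup N] [Module R N]

/-- An injective map with flat cokernel is universally injective. -/
theorem lTensor_injective_of_flat_coker (u : M →ₗ[R] N) (hu : Injective u)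
    [Module.Flat R (N ⧸ LinearMap.range u)] (Q : Type*) [AddCommGroup Q] [Module R Q] :
    Injective (u.lTensor Q) := by
  have hsurj : Surjective (Finsupp.linearCombination R (id : Q → Q)) :=
    Finsupp.linearCombination_id_surjective R Q
  exact lTensor_injective_of_exact_of_exact_of_rTensor_injective
    (LinearMap.exact_subtype_ker_map (Finsupp.linearCombination R (id : Q → Q))) hsurj
    (LinearMap.exact_map_mkQ_range u) (Submodule.mkQ_surjective _)
    (Module.Flat.rTensor_preserves_injective_linearMap _ (Submodule.injective_subtype _))
    (Module.Flat.lTensor_preserves_injective_linearMap u hu)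

end A

section B

variable {R S : Type*} [CommRing R] [CommRing S] [Algebra R S] {N : Type*} [AddCommGroup N]
  [Module S N] [Module R N] [IsScalarTower R S N]

/-- If every element of a submonoid `T ⊆ S` acts universally injectively (over `R`) on the
`S`-module `N`, then `N → T⁻¹N` is universally injective over `R`. -/
theorem lTensor_mkLinearMap_injective (T : Submonoid S)
    (hT : ∀ t ∈ T, ∀ (Q : Type w) [AddCommGroup Q] [Module R Q],
      Injective (((LinearMap.lsmul S N t).restrictScalars R).lTensor Q))
    (Q : Type w) [AddCommGroup Q] [Module R Q] :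
    Injective (((LocalizedModule.mkLinearMap T N).restrictScalars R).lTensor Q) := by
  rw [injective_iff_map_eq_zero]
  intro z hz
  have h1 : TensorProduct.AlgebraTensorModule.rTensor R Q (LocalizedModule.mkLinearMap T N)
      (TensorProduct.comm R Q N z) = 0 := by
    have := LinearMap.rTensor_comm (N := Q) ((LocalizedModule.mkLinearMap T N).restrictScalars R) z
    rw [hz, map_zero] at this
    exact this
  rw [IsLocalizedModule.eq_zero_iff T] at h1
  obtain ⟨t, ht⟩ := h1
  have h2 : ∀ w : N ⊗[R] Q, (t : S) • w =
      LinearMap.rTensor Q ((LinearMap.lsmul S N (t : S)).restrictScalars R) w := by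
    intro w
    induction w using TensorProduct.induction_on with
    | zero => simp
    | tmul n q => rw [TensorProduct.smul_tmul']; rfl
    | add w₁ w₂ h₁ h₂ => rw [smul_add, map_add, h₁, h₂]
  rw [Submonoid.smul_def, h2, LinearMap.rTensor_comm] at ht
  have h3 := (TensorProduct.comm R Q N).injective (ht.trans (map_zero _).symm)
  exact hT t t.2 Q (h3.trans (map_zero _).symm)

/-- kernel of `Q ⊗ N → Q ⊗ T⁻¹N`: killed by an element of `T`. -/
theorem exists_smul_comm_eq_zero_of_lTensor_mkLinearMap (T : Submonoid S)
    (Q : Type*) [AddCommGroup Q] [Module R Q] (z : Q ⊗[R] N)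
    (hz : ((LocalizedModule.mkLinearMap T N).restrictScalars R).lTensor Q z = 0) :
    ∃ t : T, (t : S) • (TensorProduct.comm R Q N z) = 0 := by
  have h1 : TensorProduct.AlgebraTensorModule.rTensor R Q (LocalizedModule.mkLinearMap T N)
      (TensorProduct.comm R Q N z) = 0 := by
    have := LinearMap.rTensor_comm (N := Q) ((LocalizedModule.mkLinearMap T N).restrictScalars R) z
    rw [hz, map_zero] at this
    exact this
  rw [IsLocalizedModule.eq_zero_iff T] at h1
  obtain ⟨t, ht⟩ := h1
  exact ⟨t, ht⟩

/-- the `S`-action on `N ⊗ Q` through `N`. -/
theorem smul_eq_rTensor_lsmul (Q : Type*) [AddCommGroup Q] [Module R Q] (s : S) (w : N ⊗[R] Q) :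
    s • w = LinearMap.rTensor Q ((LinearMap.lsmul S N s).restrictScalars R) w := by
  induction w using TensorProduct.induction_on with
  | zero => simp
  | tmul n q => rw [TensorProduct.smul_tmul']; rfl
  | add w₁ w₂ h₁ h₂ => rw [smul_add, map_add, h₁, h₂]

end B

end Groth.Agent.Lib27.FibInj
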