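import Mathlib
import Groth.Agent.Lib27.FibInj.EssFP
import Groth.Agent.Lib27.FibInj.LocPres
import Groth.Agent.Lib27.FibInj.AtPrime

/-!
# Fibrewise projective + flat over the base ⟹ flat (finitely presented case)
-/

set_option autoImplicit false
set_option linter.style.haveILetI false
set_option linter.unusedSectionVars false

open TensorProduct Function
open Groth.Agent.Lib.Helper18.Fl

universe u

namespace Groth.Agent.Lib27.FibInj

section FP

variable {A B : Type u} [CommRing A] [CommRing B] [Algebra A B] (q : Ideal B) [q.IsPrime]
  (M : Type u) [AddCommGroup M] [Module B M] [Module A M] [IsScalarTower A B M]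

/-- the closed fibre ring of `B_q` over `p = q ∩ A`, as a quotient of `B_q` -/
abbrev FibQuot : Type u :=
  Localization.AtPrime q ⧸ (q.comap (algebraMap A B)).map (algebraMap A (Localization.AtPrime q))

lemma map_le_maximalIdeal :
    (q.comap (algebraMap A B)).map (algebraMap A (Localization.AtPrime q)) ≤
      IsLocalRing.maximalIdeal (Localization.AtPrime q) := by
  rw [Ideal.map_le_iff_le_comap]
  intro a ha
  rw [Ideal.mem_comap, IsScalarTower.algebraMap_apply A B (Localization.AtPrime q),
    IsLocalization.AtPrime.to_map_mem_maximal_iff (Localization.AtPrime q) q]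
  exact ha

instance : Nontrivial (FibQuot (A := A) q) := by
  rw [Ideal.Quotient.nontrivial_iff]
  intro htop
  have := map_le_maximalIdeal (A := A) q
  rw [htop] at this
  exact (IsLocalRing.maximalIdeal.isMaximal _).ne_top (top_le_iff.1 this)

instance : IsLocalRing (FibQuot (A := A) q) :=
  IsLocalRing.of_surjective' (Ideal.Quotient.mk _) Ideal.Quotient.mk_surjective

/-- `κ(p) → B_q / p B_q` -/
noncomputable def resToFibQuot :
    (q.comap (algebraMap A B)).ResidueField →ₐ[A] FibQuot (A := A) q :=
  Ideal.ResidueField.liftₐ (q.comap (algebraMap A B)) (Algebra.ofId A (FibQuot (A := A) q))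
    (by
      intro a ha
      rw [RingHom.mem_ker]
      change algebraMap A (FibQuot (A := A) q) a = 0
      rw [IsScalarTower.algebraMap_apply A (Localization.AtPrime q) (FibQuot (A := A) q),
        Ideal.Quotient.algebraMap_eq, Ideal.Quotient.eq_zero_iff_mem]
      exact Ideal.mem_map_of_mem _ ha)
    (by
      intro a ha
      rw [Submonoid.mem_comap]
      change IsUnit (algebraMap A (FibQuot (A := A) q) a)
      rw [IsScalarTower.algebraMap_apply A (Localization.AtPrime q) (FibQuot (A := A) q)]
      apply IsUnit.map
      rw [IsScalarTower.algebraMap_apply A B (Localization.AtPrime q)]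
      exact IsLocalization.map_units (Localization.AtPrime q)
        (⟨algebraMap A B a, ha⟩ : q.primeCompl))

/-- `B ⊗ κ(p) → B_q / p B_q` -/
noncomputable def fibToFibQuot :
    (B ⊗[A] (q.comap (algebraMap A B)).ResidueField) →ₐ[B] FibQuot (A := A) q :=
  Algebra.TensorProduct.lift (Algebra.ofId B (FibQuot (A := A) q)) (resToFibQuot q)
    (fun _ _ => Commute.all _ _)

/-- The closed fibre of `M_q` is flat over the closed fibre ring when the fibre module is
projective. -/
theorem flat_fibQuot_tensor
    (hproj : Module.Projective (B ⊗[A] (q.comap (algebraMap A B)).ResidueField)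
      ((B ⊗[A] (q.comap (algebraMap A B)).ResidueField) ⊗[B] M)) :
    Module.Flat (FibQuot (A := A) q)
      ((FibQuot (A := A) q) ⊗[Localization.AtPrime q] (LocalizedModule q.primeCompl M)) := by
  letI : Algebra (B ⊗[A] (q.comap (algebraMap A B)).ResidueField) (FibQuot (A := A) q) :=
    (fibToFibQuot (A := A) q).toRingHom.toAlgebra
  haveI : IsScalarTower B (B ⊗[A] (q.comap (algebraMap A B)).ResidueField) (FibQuot (A := A) q) :=
    IsScalarTower.of_algebraMap_eq (fun b => ((fibToFibQuot (A := A) q).commutes b).symm)
  have e₃ := TensorProduct.AlgebraTensorModule.cancelBaseChange B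
    (B ⊗[A] (q.comap (algebraMap A B)).ResidueField) (FibQuot (A := A) q) (FibQuot (A := A) q) M
  have e₂ := TensorProduct.AlgebraTensorModule.cancelBaseChange B
    (Localization.AtPrime q) (FibQuot (A := A) q) (FibQuot (A := A) q) M
  have e₁ : (Localization.AtPrime q) ⊗[B] M ≃ₗ[Localization.AtPrime q]
      LocalizedModule q.primeCompl M :=
    (IsLocalizedModule.isBaseChange q.primeCompl (Localization.AtPrime q)
      (LocalizedModule.mkLinearMap q.primeCompl M)).equiv
  have e : (FibQuot (A := A) q) ⊗[Localization.AtPrime q] (LocalizedModule q.primeCompl M)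
      ≃ₗ[FibQuot (A := A) q]
      (FibQuot (A := A) q) ⊗[B ⊗[A] (q.comap (algebraMap A B)).ResidueField]
        ((B ⊗[A] (q.comap (algebraMap A B)).ResidueField) ⊗[B] M) :=
    (TensorProduct.AlgebraTensorModule.congr (LinearEquiv.refl (FibQuot (A := A) q) _) e₁.symm)
      ≪≫ₗ e₂ ≪≫ₗ e₃.symm
  haveI := hproj
  exact Module.Flat.of_linearEquiv e

/-- a vector with coordinates in `I` lies in `I • ⊤`. -/
lemma pi_mem_smul_top {S : Type*} [CommRing S] {ι : Type*} [Fintype ι] [DecidableEq ι]
    (I : Ideal S) (x : ι → S) (hx : ∀ i, x i ∈ I) :
    x ∈ I • (⊤ : Submodule S (ι → S)) := by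
  have : x = ∑ i, x i • (Pi.single i 1 : ι → S) := by
    funext k
    simp [Finset.sum_apply, Pi.single_apply]
  rw [this]
  exact Submodule.sum_mem _ fun i _ => Submodule.smul_mem_smul (hx i) trivial

variable [Algebra.FinitePresentation A B] [Module.FinitePresentation B M] [Module.Flat A M]

/-- If `M_q` is flat over `A` and the closed fibre of `M_q` has a finite basis, then `M_q` is flat
over `B` (indeed free over `B_q`). -/
theorem flat_localizedModule_of_basis {ι : Type*} [Fintype ι] [DecidableEq ι]
    (b : Module.Basis ι (FibQuot (A := A) q)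
      ((FibQuot (A := A) q) ⊗[Localization.AtPrime q] (LocalizedModule q.primeCompl M))) :
    Module.Flat B (LocalizedModule q.primeCompl M) := by
  haveI : Module.Flat A (LocalizedModule q.primeCompl M) := flat_localizedModule q.primeCompl
  -- lift the basis
  have hsurj := TensorProduct.mk_surjective (Localization.AtPrime q)
    (LocalizedModule q.primeCompl M) (FibQuot (A := A) q) Ideal.Quotient.mk_surjective
  choose v hv using fun i => hsurj (b i)
  -- the map
  obtain ⟨u, hu⟩ : ∃ u : (ι → Localization.AtPrime q) →ₗ[Localization.AtPrime q]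
      LocalizedModule q.primeCompl M, ∀ x, u x = ∑ i, x i • v i :=
    ⟨Fintype.linearCombination (Localization.AtPrime q) v, fun x =>
      Fintype.linearCombination_apply _ _ _⟩
  -- image in the closed fibre
  have himg : ∀ x, (TensorProduct.mk (Localization.AtPrime q) (FibQuot (A := A) q)
      (LocalizedModule q.primeCompl M) 1) (u x) =
      ∑ i, (Ideal.Quotient.mk ((q.comap (algebraMap A B)).map
        (algebraMap A (Localization.AtPrime q))) (x i)) • b i := by
    intro x
    rw [hu, map_sum]
    refine Finset.sum_congr rfl fun i _ => ?_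
    rw [map_smul, hv, ← Ideal.Quotient.algebraMap_eq, algebraMap_smul]
  -- elements of `p • ⊤` die in the closed fibre
  have hkill : ∀ n ∈ (q.comap (algebraMap A B)) • (⊤ : Submodule A (LocalizedModule q.primeCompl M)),
      (TensorProduct.mk (Localization.AtPrime q) (FibQuot (A := A) q)
        (LocalizedModule q.primeCompl M) 1) n = 0 := by
    intro n hn
    refine Submodule.smul_induction_on hn (fun a ha m _ => ?_) (fun x y hx hy => ?_)
    · have h0 : (algebraMap A (Localization.AtPrime q) a) • (1 : FibQuot (A := A) q) = 0 := by
        have h : (algebraMap A (Localization.AtPrime q) a) • (1 : FibQuot (A := A) q) =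
            Ideal.Quotient.mk ((q.comap (algebraMap A B)).map
              (algebraMap A (Localization.AtPrime q)))
              ((algebraMap A (Localization.AtPrime q) a) • (1 : Localization.AtPrime q)) := rfl
        rw [h, smul_eq_mul, mul_one, Ideal.Quotient.eq_zero_iff_mem]
        exact Ideal.mem_map_of_mem _ ha
      rw [← algebraMap_smul (Localization.AtPrime q) a m, TensorProduct.mk_apply,
        ← TensorProduct.smul_tmul, h0, TensorProduct.zero_tmul]
    · rw [map_add, hx, hy, add_zero]
  have hinj := (fibInj_localization (A := A) q u (by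
    intro x hx
    have h1 := hkill _ hx
    rw [himg] at h1
    have h2 := Fintype.linearIndependent_iff.1 b.linearIndependent _ h1
    have h3 : x ∈ ((q.comap (algebraMap A B)).map (algebraMap A (Localization.AtPrime q))) •
        (⊤ : Submodule (Localization.AtPrime q) (ι → Localization.AtPrime q)) :=
      pi_mem_smul_top _ x fun i => Ideal.Quotient.eq_zero_iff_mem.1 (h2 i)
    have h4 := Ideal.smul_restrictScalars (q.comap (algebraMap A B))
      (⊤ : Submodule (Localization.AtPrime q) (ι → Localization.AtPrime q))
    rw [Submodule.restrictScalars_top] at h4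
    rw [← h4, Submodule.restrictScalars_mem]
    exact h3)).1
  -- surjectivity by Nakayama
  have hsur : Surjective u := by
    rw [← LinearMap.range_eq_top, eq_top_iff]
    refine Submodule.le_of_le_smul_of_le_jacobson_bot (I :=
      (q.comap (algebraMap A B)).map (algebraMap A (Localization.AtPrime q)))
      Module.Finite.fg_top ?_ ?_
    · rw [IsLocalRing.jacobson_eq_maximalIdeal ⊥ bot_ne_top]
      exact map_le_maximalIdeal q
    · intro n _
      obtain ⟨c, hc⟩ : ∃ c : ι → FibQuot (A := A) q,
          (TensorProduct.mk (Localization.AtPrime q) (FibQuot (A := A) q)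
            (LocalizedModule q.primeCompl M) 1) n = ∑ i, c i • b i :=
        ⟨fun i => b.repr _ i, (b.sum_repr _).symm⟩
      choose x hx using fun i => Ideal.Quotient.mk_surjective (I := (q.comap (algebraMap A B)).map
        (algebraMap A (Localization.AtPrime q))) (c i)
      have h1 : (TensorProduct.mk (Localization.AtPrime q) (FibQuot (A := A) q)
          (LocalizedModule q.primeCompl M) 1) (n - u x) = 0 := by
        rw [map_sub, himg, hc, sub_eq_zero]
        exact Finset.sum_congr rfl fun i _ => by rw [hx]
      have h2 : n - u x ∈ ((q.comap (algebraMap A B)).map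
          (algebraMap A (Localization.AtPrime q))) •
          (⊤ : Submodule (Localization.AtPrime q) (LocalizedModule q.primeCompl M)) := by
        have h3 := congrArg (TensorProduct.quotTensorEquivQuotSMul
          (LocalizedModule q.primeCompl M) ((q.comap (algebraMap A B)).map
          (algebraMap A (Localization.AtPrime q)))) h1
        rw [TensorProduct.mk_apply, map_zero] at h3
        have h5 : (1 : FibQuot (A := A) q) = Ideal.Quotient.mk ((q.comap (algebraMap A B)).map
          (algebraMap A (Localization.AtPrime q))) 1 := rfl
        rw [h5, TensorProduct.quotTensorEquivQuotSMul_mk_tmul, one_smul,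
          Submodule.Quotient.mk_eq_zero] at h3
        exact h3
      have : n = u x + (n - u x) := by abel
      rw [this]
      exact Submodule.add_mem_sup ⟨x, rfl⟩ h2
  have e : (ι → Localization.AtPrime q) ≃ₗ[Localization.AtPrime q]
      LocalizedModule q.primeCompl M := LinearEquiv.ofBijective u ⟨hinj, hsur⟩
  haveI : Module.Flat (Localization.AtPrime q) (LocalizedModule q.primeCompl M) :=
    Module.Flat.of_linearEquiv e.symm
  exact Module.Flat.trans B (Localization.AtPrime q) (LocalizedModule q.primeCompl M)

/-- If `M` is flat over `A` and the fibre module over `p = q ∩ A` is projective over the fibre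
ring, then `M_q` is flat over `B`. -/
theorem flat_localizedModule_of_fibre_projective
    (hproj : Module.Projective (B ⊗[A] (q.comap (algebraMap A B)).ResidueField)
      ((B ⊗[A] (q.comap (algebraMap A B)).ResidueField) ⊗[B] M)) :
    Module.Flat B (LocalizedModule q.primeCompl M) := by
  classical
  haveI hflatC := flat_fibQuot_tensor q M hproj
  haveI : Module.Free (FibQuot (A := A) q)
      ((FibQuot (A := A) q) ⊗[Localization.AtPrime q] (LocalizedModule q.primeCompl M)) :=
    Module.free_of_flat_of_isLocalRing
  exact flat_localizedModule_of_basis q M (Module.Free.chooseBasis (FibQuot (A := A) q)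
    ((FibQuot (A := A) q) ⊗[Localization.AtPrime q] (LocalizedModule q.primeCompl M)))

end FP

end Groth.Agent.Lib27.FibInj
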