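import Mathlib
import Groth.Agent.Lib27.FibInj.RegSeq2

/-!
# Regular sequences on fibres lift: the induction
-/

set_option autoImplicit false
set_option linter.style.haveILetI false
set_option linter.unusedSectionVars false

open TensorProduct Function
open scoped Pointwise

universe u

namespace Groth.Agent.Lib27.FibInj

section RS

variable {A B : Type u} [CommRing A] [CommRing B] [Algebra A B] (q : Ideal B) [q.IsPrime]

/-- flatness of localized modules transfers along `B`-linear equivalences -/
lemma flat_loc_of_equiv {X Y : Type u} [AddCommGroup X] [Module B X] [Module A X]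
    [IsScalarTower A B X] [AddCommGroup Y] [Module B Y] [Module A Y] [IsScalarTower A B Y]
    (e : X ≃ₗ[B] Y) (h : Module.Flat A (LocalizedModule q.primeCompl Y)) :
    Module.Flat A (LocalizedModule q.primeCompl X) :=
  Module.Flat.of_linearEquiv ((locCongr q.primeCompl e).restrictScalars A)

lemma flat_loc_quot_nil (M : Type u) [AddCommGroup M] [Module B M] [Module A M]
    [IsScalarTower A B M] (h : Module.Flat A (LocalizedModule q.primeCompl M)) :
    Module.Flat A (LocalizedModule q.primeCompl
      (M ⧸ (Ideal.ofList ([] : List B) • (⊤ : Submodule B M)))) := by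
  have h0 : (Ideal.ofList ([] : List B) • (⊤ : Submodule B M)) = ⊥ := by
    rw [Ideal.ofList_nil, Submodule.bot_smul]
  exact flat_loc_of_equiv q (Submodule.quotEquivOfEqBot _ h0) h

variable [Algebra.FinitePresentation A B]

theorem weaklyRegular_and_flat (g : List B) :
    ∀ (M : Type u) [AddCommGroup M] [Module B M] [Module A M] [IsScalarTower A B M]
      [Module.FinitePresentation B M],
      Module.Flat A (LocalizedModule q.primeCompl M) →
      RingTheory.Sequence.IsWeaklyRegular
        (LocalizedModule q.primeCompl (M ⊗[A] (q.comap (algebraMap A B)).ResidueField)) g →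
      RingTheory.Sequence.IsWeaklyRegular (LocalizedModule q.primeCompl M) g ∧
        ∀ i ≤ g.length, Module.Flat A (LocalizedModule q.primeCompl
          (M ⧸ (Ideal.ofList (g.take i) • (⊤ : Submodule B M)))) := by
  induction g with
  | nil =>
    intro M _ _ _ _ _ hflat _
    refine ⟨RingTheory.Sequence.IsWeaklyRegular.nil B _, ?_⟩
    intro i _
    rw [List.take_nil]
    exact flat_loc_quot_nil q M hflat
  | cons r rs ih =>
    intro M _ _ _ _ _ hflat hreg
    rw [RingTheory.Sequence.isWeaklyRegular_cons_iff] at hreg ⊢
    obtain ⟨hr, hrs⟩ := hreg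
    haveI := hflat
    obtain ⟨hreg_r, hflat'⟩ := step q M r hr
    haveI := finitePresentation_quotSMulTop M r
    have e2 : QuotSMulTop r (LocalizedModule q.primeCompl
        (M ⊗[A] (q.comap (algebraMap A B)).ResidueField)) ≃ₗ[B]
        LocalizedModule q.primeCompl
          ((QuotSMulTop r M) ⊗[A] (q.comap (algebraMap A B)).ResidueField) :=
      quotLocEquiv q.primeCompl r _ ≪≫ₗ locCongr q.primeCompl (tensorQuotEquiv A r M _)
    have hrs' := (LinearEquiv.isWeaklyRegular_congr (R := B)
      (M := QuotSMulTop r (LocalizedModule q.primeCompl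
        (M ⊗[A] (q.comap (algebraMap A B)).ResidueField)))
      (M₂ := LocalizedModule q.primeCompl
          ((QuotSMulTop r M) ⊗[A] (q.comap (algebraMap A B)).ResidueField)) e2 rs).1 hrs
    obtain ⟨h1, h2⟩ := ih (QuotSMulTop r M) hflat' hrs'
    refine ⟨⟨hreg_r, (LinearEquiv.isWeaklyRegular_congr (R := B)
      (M := QuotSMulTop r (LocalizedModule q.primeCompl M))
      (M₂ := LocalizedModule q.primeCompl (QuotSMulTop r M))
      (quotLocEquiv q.primeCompl r M) rs).2 h1⟩,
      ?_⟩
    intro i hi
    cases i with
    | zero =>
      rw [List.take_zero]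
      exact flat_loc_quot_nil q M hflat
    | succ i =>
      rw [List.take_succ_cons]
      have hi' : i ≤ rs.length := by simpa using hi
      exact flat_loc_of_equiv q
        (Submodule.quotOfListConsSMulTopEquivQuotSMulTopInner M r (rs.take i)) (h2 i hi')

/-- top_ne_smul transfers from the fibre -/
lemma top_ne_smul_of_fibre (M : Type u) [AddCommGroup M] [Module B M] [Module A M]
    [IsScalarTower A B M] (I : Ideal B)
    (h : (⊤ : Submodule B (LocalizedModule q.primeCompl
      (M ⊗[A] (q.comap (algebraMap A B)).ResidueField))) ≠ I • ⊤) :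
    (⊤ : Submodule B (LocalizedModule q.primeCompl M)) ≠ I • ⊤ := by
  intro htop
  apply h
  refine le_antisymm ?_ le_top
  intro y _
  induction y using LocalizedModule.induction_on with
  | _ z s =>
    induction z using TensorProduct.induction_on with
    | zero => rw [LocalizedModule.zero_mk]; exact zero_mem _
    | tmul m c =>
      let φ : M →ₗ[B] M ⊗[A] (q.comap (algebraMap A B)).ResidueField :=
        { toFun := fun m => m ⊗ₜ[A] c
          map_add' := fun m₁ m₂ => TensorProduct.add_tmul m₁ m₂ c
          map_smul' := fun b m => rfl }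
      have h1 : LocalizedModule.mk m s ∈ I • (⊤ : Submodule B (LocalizedModule q.primeCompl M)) := by
        rw [← htop]; trivial
      have h2 := map_mem_smul_top I
        ((LocalizedModule.map q.primeCompl φ).restrictScalars B) h1
      rw [LinearMap.restrictScalars_apply, LocalizedModule.map_mk] at h2
      exact h2
    | add z₁ z₂ h₁ h₂ =>
      have : LocalizedModule.mk (z₁ + z₂) s = LocalizedModule.mk z₁ s + LocalizedModule.mk z₂ s := by
        rw [LocalizedModule.mk_add_mk, ← smul_add, LocalizedModule.mk_cancel_common_left]
      rw [this]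
      exact add_mem (h₁ trivial) (h₂ trivial)

theorem regular_and_flat (M : Type u) [AddCommGroup M] [Module B M] [Module A M]
    [IsScalarTower A B M] [Module.FinitePresentation B M] (g : List B)
    (hflat : Module.Flat A (LocalizedModule q.primeCompl M))
    (hreg : RingTheory.Sequence.IsRegular
      (LocalizedModule q.primeCompl (M ⊗[A] (q.comap (algebraMap A B)).ResidueField)) g) :
    RingTheory.Sequence.IsRegular (LocalizedModule q.primeCompl M) g ∧
      ∀ i ≤ g.length, Module.Flat A (LocalizedModule q.primeCompl
        (M ⧸ (Ideal.ofList (g.take i) • (⊤ : Submodule B M)))) := by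
  obtain ⟨h1, h2⟩ := weaklyRegular_and_flat q g M hflat hreg.toIsWeaklyRegular
  exact ⟨⟨h1, top_ne_smul_of_fibre q M _ hreg.top_ne_smul⟩, h2⟩

end RS

end Groth.Agent.Lib27.FibInj
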