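import Mathlib
import Groth.Prelude.Def_FlatCA
import Groth.Agent.Lib.Helper26.FiberAss

/-!
# Prime avoidance on fibre modules, and kernels of flat base change
-/

set_option autoImplicit false
set_option linter.style.haveILetI false
set_option linter.unusedSectionVars false

open TensorProduct Function

universe u

namespace Groth.Agent.Lib27.FibInj

section Avoid

attribute [local instance] Algebra.TensorProduct.rightAlgebra

variable {R S : Type u} [CommRing R] [CommRing S] [Algebra R S] (p : Ideal R) [p.IsPrime]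
  (N : Type u) [AddCommGroup N] [Module S N] [Module R N] [IsScalarTower R S N]

/-- prime avoidance on the fibre module: an ideal of `S` consisting of zero divisors of the fibre
module is contained in the contraction of an associated prime (over the fibre ring). -/
theorem exists_ass_fiber_of_zeroDivisors [IsNoetherianRing (p.Fiber S)] [Module.Finite S N]
    (I : Ideal S) (hI : ∀ s ∈ I, ∃ m : FlatCA.fiberMod p S N, m ≠ 0 ∧ s • m = 0) :
    ∃ Q₁ ∈ associatedPrimes (p.Fiber S) (FlatCA.fiberMod p S N),
      I ≤ Q₁.comap (Algebra.TensorProduct.includeRight (R := R) (A := p.ResidueField)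
        (B := S)).toRingHom := by
  classical
  haveI : Module.Finite (p.Fiber S) (FlatCA.fiberMod p S N) :=
    inferInstanceAs (Module.Finite (p.Fiber S) ((p.Fiber S) ⊗[S] N))
  have hfin := associatedPrimes.finite (p.Fiber S) (FlatCA.fiberMod p S N)
  have hsub : (I : Set S) ⊆ ⋃ Q₁ ∈ (hfin.toFinset : Set (Ideal (p.Fiber S))),
      ((Q₁.comap (Algebra.TensorProduct.includeRight (R := R) (A := p.ResidueField)
        (B := S)).toRingHom : Ideal S) : Set S) := by
    intro s hs
    obtain ⟨m, hm0, hm⟩ := hI s hs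
    have h1 : (Algebra.TensorProduct.includeRight (R := R) (A := p.ResidueField) (B := S) s :
        p.Fiber S) ∈ ⋃ P ∈ associatedPrimes (p.Fiber S) (FlatCA.fiberMod p S N),
          (P : Set (p.Fiber S)) := by
      rw [biUnion_associatedPrimes_eq_zero_divisors]
      exact ⟨m, hm0, by rw [Groth.Agent.Lib.Helper26.FiberAss.includeRight_smul]; exact hm⟩
    obtain ⟨P, hP, hsP⟩ := Set.mem_iUnion₂.1 h1
    exact Set.mem_iUnion₂.2 ⟨P, by simpa using hP, hsP⟩
  rw [Ideal.subset_union_prime ⊥ ⊥] at hsub
  · obtain ⟨Q₁, hQ₁, hle⟩ := hsub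
    exact ⟨Q₁, by simpa using hQ₁, hle⟩
  · intro Q₁ hQ₁ _ _
    have : Q₁ ∈ associatedPrimes (p.Fiber S) (FlatCA.fiberMod p S N) := by simpa using hQ₁
    haveI := this.isPrime
    exact Ideal.comap_isPrime _ _

end Avoid

section FlatKer

variable {S S' : Type*} [CommRing S] [CommRing S'] [Algebra S S'] [Module.Flat S S']
  {X : Type*} [AddCommGroup X] [Module S X]

/-- If `1 ⊗ x = 0` in `S' ⊗ X` with `S'` flat, the annihilator of `x` generates the unit ideal of
`S'`; so no prime of `S'` contracts to an ideal containing it. -/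
theorem false_of_tmul_eq_zero (x : X) (hx : (1 : S') ⊗ₜ[S] x = 0) (q' : Ideal S') [q'.IsPrime]
    (hle : LinearMap.ker (LinearMap.toSpanSingleton S X x) ≤ q'.comap (algebraMap S S')) :
    False := by
  obtain ⟨I, hI⟩ : ∃ I : Ideal S, I = LinearMap.ker (LinearMap.toSpanSingleton S X x) := ⟨_, rfl⟩
  let φ : (S ⧸ I) →ₗ[S] X := Submodule.liftQ I (LinearMap.toSpanSingleton S X x) (le_of_eq hI)
  have hφ : Injective φ := by
    rw [← LinearMap.ker_eq_bot]
    exact Submodule.ker_liftQ_eq_bot _ _ _ (le_of_eq hI.symm)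
  have hinj := Module.Flat.lTensor_preserves_injective_linearMap (M := S') φ hφ
  have h1 : (φ.lTensor S') ((1 : S') ⊗ₜ[S] (Submodule.Quotient.mk (1 : S) : S ⧸ I)) = 0 := by
    rw [LinearMap.lTensor_tmul]
    have : φ (Submodule.Quotient.mk (1 : S)) = x := by
      change Submodule.liftQ I (LinearMap.toSpanSingleton S X x) (le_of_eq hI)
        (Submodule.Quotient.mk (1 : S)) = x
      rw [Submodule.liftQ_apply, LinearMap.toSpanSingleton_apply, one_smul]
    rw [this, hx]
  have h2 : (1 : S') ⊗ₜ[S] (Submodule.Quotient.mk (1 : S) : S ⧸ I) = 0 :=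
    hinj (h1.trans (map_zero _).symm)
  have h3 : (TensorProduct.tensorQuotEquivQuotSMul S' I).symm (Submodule.Quotient.mk (1 : S')) =
      0 := by
    rw [TensorProduct.tensorQuotEquivQuotSMul_symm_mk]
    exact h2
  rw [LinearEquiv.map_eq_zero_iff, Submodule.Quotient.mk_eq_zero] at h3
  have h4 : ∀ y ∈ I • (⊤ : Submodule S S'), y ∈ q' := by
    intro y hy
    refine Submodule.smul_induction_on hy (fun a ha s' _ => ?_) (fun y₁ y₂ h₁ h₂ => q'.add_mem h₁ h₂)
    rw [Algebra.smul_def]
    exact q'.mul_mem_right _ (hle (hI ▸ ha))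
  exact (Ideal.IsPrime.ne_top inferInstance) ((Ideal.eq_top_iff_one q').2 (h4 1 h3))

end FlatKer

section Transport

variable {R S S' : Type*} [CommRing R] [CommRing S] [CommRing S'] [Algebra R S] [Algebra S S']
  [Algebra R S'] [IsScalarTower R S S'] (N : Type*) [AddCommGroup N] [Module S N] [Module R N]
  [IsScalarTower R S N] (Q : Type*) [AddCommGroup Q] [Module R Q]

/-- `Q ⊗_R (S' ⊗_S N) → S' ⊗_S (N ⊗_R Q)` -/
noncomputable def transportEquiv : Q ⊗[R] (S' ⊗[S] N) ≃ₗ[R] S' ⊗[S] (N ⊗[R] Q) :=
  (TensorProduct.comm R Q (S' ⊗[S] N)) ≪≫ₗ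
    ((TensorProduct.AlgebraTensorModule.assoc R S S S' N Q).restrictScalars R)

theorem transportEquiv_lTensor (z : Q ⊗[R] N) :
    transportEquiv (S' := S') N Q
      ((((TensorProduct.mk S S' N 1).restrictScalars R).lTensor Q) z) =
      (1 : S') ⊗ₜ[S] (TensorProduct.comm R Q N z) := by
  induction z using TensorProduct.induction_on with
  | zero => simp
  | tmul q n => rfl
  | add z₁ z₂ h₁ h₂ => rw [map_add, map_add, h₁, h₂, map_add, TensorProduct.tmul_add]

end Transport

end Groth.Agent.Lib27.FibInj
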